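import Cfsg.Agent.H57.BG.AsDead
import Cfsg.Agent.H946.DK.Kill

/-!
# The kill of case (II) for almost simple `M` (helper946, S3679)

`AS g M` as in `H884.Row.AS`.
* `index_ominus` : `soc M = PΩ⁻_2n(q)`, `|T| (2, q - 1) = q^(n²) ∏ (q^(2i) - 1)`, `n` even:
  `|T : M| m = q^n (q^n - 1)`, `m ∣ 2 f (2, p - 1)`;
* `index_psp`, `index_oodd` : `soc M = PSp_2n-2(q)`, `Ω_2n-1(q)`, `T = PΩ⁺_2n(q)`, `n` even:
  `|T : M| d m = q^(n-1) (q^n - 1)`, `m ∣ d f`;
* `kill_ominus`, `kill_plus` : the kills.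
-/

set_option autoImplicit false

namespace Cfsg.Agent.H946.DK

open Module Cfsg Subgroup Cfsg.Agent.OrdDiv Cfsg.Agent.H436 Cfsg.Agent.H264.FKS Cfsg.Agent.H915.GN
open Cfsg.Agent.H899.CG
open Cfsg.Agent.H57.BG (AS prB_succ aut_psp aut_oodd aut_ominus)

universe u

/-- the index, from the order of the socle -/
theorem index_of_socle {T : Type u} [Group T] [Finite T] {M : Subgroup T} (S : Subgroup M) {o X : ℕ}
    (haut : Nat.card M ∣ Nat.card (MulAut S)) (ho : Nat.card (MulAut S) = o * Nat.card S)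
    (hT : Nat.card T = Nat.card S * X) : ∃ m, m ∣ o ∧ M.index * m = X := by
  have hS : 0 < Nat.card S := Nat.card_pos
  have h1 := S.card_mul_index
  refine ⟨S.index, ?_, ?_⟩
  · rw [ho, ← h1, mul_comm o] at haut
    exact Nat.dvd_of_mul_dvd_mul_left hS haut
  · have h2 := M.card_mul_index
    rw [← h1, hT] at h2
    have h3 : Nat.card S * (M.index * S.index) = Nat.card S * X := by
      rw [← h2]; ring
    exact Nat.eq_of_mul_eq_mul_left hS h3

theorem gcd_four_add {q n : ℕ} (hn : Even n) (hn0 : n ≠ 0) (hq : 2 ≤ q) : Nat.gcd 4 (q ^ n + 1) = Nat.gcd 2 (q - 1) := by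
  obtain ⟨k, rfl⟩ := hn
  have hk : k ≠ 0 := by rintro rfl; exact hn0 rfl
  rcases Nat.even_or_odd q with he | ho
  · have h1 : Odd (q ^ (k + k) + 1) := ((Nat.even_pow' (by omega)).2 he).add_one
    have h2 : Nat.Coprime 4 (q ^ (k + k) + 1) := by
      rw [show (4 : ℕ) = 2 ^ 2 by norm_num]
      exact Nat.Coprime.pow_left _ (Nat.coprime_two_left.2 h1)
    have h3 : Nat.Coprime 2 (q - 1) := Nat.coprime_two_left.2 (Nat.Even.sub_odd (by omega) he odd_one)
    rw [h2.gcd_eq_one, h3.gcd_eq_one]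
  · have h0 : Nat.gcd 2 (q - 1) = 2 := Nat.gcd_eq_left (Nat.Odd.sub_odd ho odd_one).two_dvd
    have h1 : q ^ (k + k) % 4 = 1 := by
      rw [← two_mul, pow_mul, Nat.pow_mod]
      have h2 : q ^ 2 % 4 = 1 := by
        rw [Nat.pow_mod]
        have : q % 4 = 1 ∨ q % 4 = 3 := by
          obtain ⟨j, hj⟩ := ho
          omega
        rcases this with h | h <;> rw [h]
      rw [h2, one_pow]; norm_num
    rw [h0, Nat.gcd_rec]
    have h3 : (q ^ (k + k) + 1) % 4 = 2 := by omega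
    rw [h3]
    norm_num

theorem gcd_four_sub {q n : ℕ} (hn : Even n) (hn0 : n ≠ 0) (hq : 2 ≤ q) :
    Nat.gcd 4 (q ^ n - 1) = Nat.gcd 2 (q - 1) * Nat.gcd 2 (q - 1) := by
  obtain ⟨k, rfl⟩ := hn
  have hk : k ≠ 0 := by rintro rfl; exact hn0 rfl
  have hq1 : 1 ≤ q ^ (k + k) := Nat.one_le_pow _ _ (by omega)
  rcases Nat.even_or_odd q with he | ho
  · have h1 : Odd (q ^ (k + k) - 1) := Nat.Even.sub_odd hq1 ((Nat.even_pow' (by omega)).2 he) odd_one
    have h2 : Nat.Coprime 4 (q ^ (k + k) - 1) := by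
      rw [show (4 : ℕ) = 2 ^ 2 by norm_num]
      exact Nat.Coprime.pow_left _ (Nat.coprime_two_left.2 h1)
    have h3 : Nat.Coprime 2 (q - 1) := Nat.coprime_two_left.2 (Nat.Even.sub_odd (by omega) he odd_one)
    rw [h2.gcd_eq_one, h3.gcd_eq_one]
  · have h0 : Nat.gcd 2 (q - 1) = 2 := Nat.gcd_eq_left (Nat.Odd.sub_odd ho odd_one).two_dvd
    have h1 : q ^ (k + k) % 4 = 1 := by
      rw [← two_mul, pow_mul, Nat.pow_mod]
      have h2 : q ^ 2 % 4 = 1 := by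
        rw [Nat.pow_mod]
        have : q % 4 = 1 ∨ q % 4 = 3 := by
          obtain ⟨j, hj⟩ := ho
          omega
        rcases this with h | h <;> rw [h]
      rw [h2, one_pow]; norm_num
    have h4 : 4 ∣ q ^ (k + k) - 1 := by omega
    rw [h0, Nat.gcd_eq_left h4]

variable {T : Type} [Group T] [Finite T] {M : Subgroup T} {p f n : ℕ}

/-- **R1, the index** -/
theorem index_ominus (hp : p.Prime) (hf : 1 ≤ f) (hn : 4 ≤ n) (hne : Even n) (h : AS (.ominus n (p ^ f)) M)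
    (hT : Nat.gcd 2 (p ^ f - 1) * Nat.card T = (p ^ f) ^ (n ^ 2) * prB (p ^ f) n) :
    ∃ m, m ∣ 2 * f * Nat.gcd 2 (p - 1) ∧ M.index * m = p ^ (n * f) * (p ^ (n * f) - 1) := by
  have hq : 2 ≤ p ^ f := hp.two_le.trans (Nat.le_self_pow (by omega) p)
  obtain ⟨S, hSn, hSs, hna, hC, hS⟩ := h
  have h1 := hS.eq
  change Nat.gcd 4 ((p ^ f) ^ n + 1) * Nat.card S =
    (p ^ f) ^ (n * (n - 1)) * (((p ^ f) ^ n + 1) * prB (p ^ f) (n - 1)) at h1
  have haut := aut_ominus hp hf hn hS.real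
  have hdvd := dvd_aut S hC
  rw [gcd_four_add hne (by omega) hq] at h1
  have hd0 : 0 < Nat.gcd 2 (p ^ f - 1) := Nat.gcd_pos_of_pos_left _ (by norm_num)
  have hcard : Nat.card T = Nat.card S * ((p ^ f) ^ n * ((p ^ f) ^ n - 1)) := by
    have h3 : Nat.gcd 2 (p ^ f - 1) * Nat.card T =
        Nat.gcd 2 (p ^ f - 1) * (Nat.card S * ((p ^ f) ^ n * ((p ^ f) ^ n - 1))) := by
      rw [hT]
      calc (p ^ f) ^ (n ^ 2) * prB (p ^ f) n = (p ^ f) ^ n * ((p ^ f) ^ n - 1) *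
            ((p ^ f) ^ (n * (n - 1)) * (((p ^ f) ^ n + 1) * prB (p ^ f) (n - 1))) := by
            obtain ⟨j, rfl⟩ : ∃ j, n = j + 1 := ⟨n - 1, by omega⟩
            rw [prB_succ, H57.BG.sq_sub_one, Nat.add_sub_cancel, show (j + 1) ^ 2 = (j + 1) + (j + 1) * j by ring, pow_add]
            ring
        _ = _ := by rw [← h1]; ring
    exact Nat.eq_of_mul_eq_mul_left hd0 h3
  obtain ⟨o, ho⟩ : ∃ o, o = (if p = 2 then 2 else (if Even (n * (p ^ f - 1) / 2) then 4 else 8)) := ⟨_, rfl⟩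
  rw [← ho] at haut
  obtain ⟨m, hm, hm2⟩ := index_of_socle S hdvd haut hcard
  refine ⟨m, ?_, ?_⟩
  · have ho2 : o = 2 * Nat.gcd 2 (p - 1) := by
      by_cases hp2 : p = 2
      · rw [ho, if_pos hp2, hp2]
        norm_num
      · have hodd := hp.odd_of_ne_two hp2
        have h2 : Nat.gcd 2 (p - 1) = 2 := Nat.gcd_eq_left (Nat.Odd.sub_odd hodd odd_one).two_dvd
        have h3 : Even (n * (p ^ f - 1) / 2) := by
          have h4 : 2 ∣ p ^ f - 1 := (Nat.Odd.sub_odd hodd.pow odd_one).two_dvd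
          rw [Nat.mul_div_assoc _ h4]
          exact hne.mul_right _
        rw [ho, if_neg hp2, if_pos h3, h2]
    rw [ho2] at hm
    have h5 : 2 * Nat.gcd 2 (p - 1) * f = 2 * f * Nat.gcd 2 (p - 1) := by ring
    rwa [h5] at hm
  · rw [hm2, ← pow_mul, mul_comm f n]

/-- **R2, the index** -/
theorem index_plus (hp : p.Prime) (hf : 1 ≤ f) (hn : 4 ≤ n) (hne : Even n)
    (h : AS (.psp (n - 1) (p ^ f)) M ∨ AS (.oodd (n - 1) (p ^ f)) M)
    (hT : Nat.gcd 4 ((p ^ f) ^ n - 1) * Nat.card T = (p ^ f) ^ (n * (n - 1)) * (((p ^ f) ^ n - 1) * prB (p ^ f) (n - 1))) :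
    ∃ m, m ∣ Nat.gcd 2 (p - 1) * f ∧
      M.index * (Nat.gcd 2 (p - 1) * m) = p ^ ((n - 1) * f) * (p ^ (n * f) - 1) := by
  have hq : 2 ≤ p ^ f := hp.two_le.trans (Nat.le_self_pow (by omega) p)
  have hg := gcd_two_sub hp (show f ≠ 0 by omega)
  rw [gcd_four_sub hne (by omega) hq, hg] at hT
  set d := Nat.gcd 2 (p - 1) with hd
  have hd0 : 0 < d := Nat.gcd_pos_of_pos_left _ (by norm_num)
  have key : ∀ S : Subgroup M, Nat.card M ∣ Nat.card (MulAut S) → Nat.card (MulAut S) = d * f * Nat.card S →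
      d * Nat.card S = (p ^ f) ^ ((n - 1) ^ 2) * prB (p ^ f) (n - 1) →
      ∃ m, m ∣ d * f ∧ M.index * (d * m) = p ^ ((n - 1) * f) * (p ^ (n * f) - 1) := by
    intro S hdvd haut h1
    have hcard : d * Nat.card T = Nat.card S * ((p ^ f) ^ (n - 1) * ((p ^ f) ^ n - 1)) := by
      have h3 : d * (d * Nat.card T) = d * (Nat.card S * ((p ^ f) ^ (n - 1) * ((p ^ f) ^ n - 1))) := by
        rw [← mul_assoc, hT]
        calc (p ^ f) ^ (n * (n - 1)) * (((p ^ f) ^ n - 1) * prB (p ^ f) (n - 1)) =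
              ((p ^ f) ^ (n - 1) * ((p ^ f) ^ n - 1)) * ((p ^ f) ^ ((n - 1) ^ 2) * prB (p ^ f) (n - 1)) := by
              obtain ⟨j, rfl⟩ : ∃ j, n = j + 1 := ⟨n - 1, by omega⟩
              rw [Nat.add_sub_cancel, show (j + 1) * j = j + j ^ 2 by ring, pow_add]
              ring
          _ = _ := by rw [← h1]; ring
      exact Nat.eq_of_mul_eq_mul_left hd0 h3
    have hS : 0 < Nat.card S := Nat.card_pos
    have h1 := S.card_mul_index
    refine ⟨S.index, ?_, ?_⟩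
    · rw [haut, ← h1, mul_comm (d * f)] at hdvd
      exact Nat.dvd_of_mul_dvd_mul_left hS hdvd
    · have h2 := M.card_mul_index
      have h3 : Nat.card S * (M.index * (d * S.index)) =
          Nat.card S * ((p ^ f) ^ (n - 1) * ((p ^ f) ^ n - 1)) := by
        rw [← hcard, ← h2, ← h1]; ring
      have h4 := Nat.eq_of_mul_eq_mul_left hS h3
      rw [h4, ← pow_mul, ← pow_mul, mul_comm f (n - 1), mul_comm f n]
  rcases h with ⟨S, hSn, hSs, hna, hC, hS⟩ | ⟨S, hSn, hSs, hna, hC, hS⟩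
  · refine key S (dvd_aut S hC) ?_ ?_
    · rw [aut_psp hp hf (by omega) hS.real, hg]
    · have h1 := hS.eq
      change Nat.gcd 2 (p ^ f - 1) * Nat.card S = (p ^ f) ^ ((n - 1) ^ 2) * prB (p ^ f) (n - 1) at h1
      rwa [hg] at h1
  · have hodd : Odd (p ^ f) := hS.cond.2.1
    have hoddp : Odd p := by
      exact Nat.Odd.of_mul_left (m := p) (n := p ^ (f - 1)) (by
        rw [← pow_succ', Nat.sub_add_cancel (by omega)]; exact hodd)
    have h2 : d = 2 := Nat.gcd_eq_left (Nat.Odd.sub_odd hoddp odd_one).two_dvd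
    refine key S (dvd_aut S hC) ?_ ?_
    · rw [aut_oodd hp hf (by omega) hoddp hS.real, h2]
    · have h1 := hS.eq
      change 2 * Nat.card S = (p ^ f) ^ ((n - 1) ^ 2) * prB (p ^ f) (n - 1) at h1
      rwa [h2]

variable {A : Subgroup T} {S : Type*} [Group S] [Finite S] [IsSimpleGroup S] {r : ℕ}

/-- **R1, case (II)** -/
theorem kill_ominus (h : Fac T A M S 2) (hp : p.Prime) (hf : 1 ≤ f) (hn : 4 ≤ n)
    (hne : Even n) (hr : Prim p (n * f) r) (hrS : r ∣ Nat.card S) (hS : Alt p f n r S) (eA : A ≃* (Fin 2 → S))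
    (hno : ∀ x : A, (x : T) ∈ M → orderOf x = r → eA x 0 ≠ 1 ∧ eA x 1 ≠ 1) (hM : AS (.ominus n (p ^ f)) M)
    (hT : Nat.gcd 2 (p ^ f - 1) * Nat.card T = (p ^ f) ^ (n ^ 2) * prB (p ^ f) n) : False := by
  obtain ⟨m, hm, hTM⟩ := index_ominus hp hf hn hne hM hT
  exact kill1 h hp hf hn hne hr hrS hS eA hno hTM hm

/-- **R2, case (II)** -/
theorem kill_plus (h : Fac T A M S 2) (hp : p.Prime) (hf : 1 ≤ f) (hn : 4 ≤ n)
    (hne : Even n) (hr : Prim p (n * f) r) (hrS : r ∣ Nat.card S) (hS : Alt p f n r S) (eA : A ≃* (Fin 2 → S))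
    (hno : ∀ x : A, (x : T) ∈ M → orderOf x = r → eA x 0 ≠ 1 ∧ eA x 1 ≠ 1)
    (hM : AS (.psp (n - 1) (p ^ f)) M ∨ AS (.oodd (n - 1) (p ^ f)) M)
    (hT : Nat.gcd 4 ((p ^ f) ^ n - 1) * Nat.card T =
      (p ^ f) ^ (n * (n - 1)) * (((p ^ f) ^ n - 1) * prB (p ^ f) (n - 1))) : False := by
  obtain ⟨m, hm, hTM⟩ := index_plus hp hf hn hne hM hT
  exact kill2 h hp hf hn hne hr hrS hS eA hno hTM hm

end Cfsg.Agent.H946.DK
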