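import Cfsg.Agent.H899.Pt.Env
import Cfsg.Agent.H946.DK.Main
import Cfsg.Agent.H946.DK.KillAS

/-!
# Case (II) of the factorizations with almost simple `M`: all elements of order `r` of the factors are of type `2 n`
(helper946, S3679)

* `rank_two` : three commuting operators of order `r`, one of type `2 n`, `dim V ≤ 2 n + 1`;
* `cf`, `cf_twoFac` : the coordinate factors of `A ≅ S ^ l`, any two of them are a `TwoFac`;
* `two_eq` : `l = 2`;
* `r_dvd_ominus`, `r_dvd_plus` : `r ∣ |S|`;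
* `end_ominus`, `end_plus` : no such factorization.
-/

set_option autoImplicit false
set_option linter.unusedSectionVars false
set_option linter.unusedVariables false

namespace Cfsg.Agent.H946.DK

open Module Cfsg Subgroup Cfsg.Agent.OrdDiv Cfsg.Agent.H436 Cfsg.Agent.H264.FKS Cfsg.Agent.H915.GN
open Cfsg.Agent.H951 Cfsg.Agent.H884.Cg Cfsg.Agent.H899.CG Cfsg.Agent.H899.Pt
open Cfsg.Agent.H57.BG (AS)

section Lin

variable {F : Type*} [Field F] [Fintype F] {V : Type*} [AddCommGroup V] [Module F V] [FiniteDimensional F V]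
  {r n : ℕ}

/-- an operator of order `r` trivial on `[V, x]`, `x` of type `2 n` -/
theorem eq_one_of_triv (h : RD F r n) (hn : 2 ≤ n) (hV : finrank F V ≤ 2 * n + 1) {x w : Module.End F V}
    (hx : x ^ r = 1) (hw : w ^ r = 1) (hxw : Commute w x) (hd : finrank F (cm x) = 2 * n) (hf : cm x ≤ fx w) :
    w = 1 := by
  by_contra h1
  have h2 := Submodule.finrank_mono (cm_le_fx h.ne0 hx hxw hf)
  have h3 := finrank_fx_add_cm h.ne0 hx
  have h4 := h.le_cm hw h1
  omega

/-- **the rank**: three commuting operators of order `r`, one of them of type `2 n` -/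
theorem rank_two (h : RD F r n) (hn : 2 ≤ n) (hV : finrank F V ≤ 2 * n + 1) {x y z : Module.End F V}
    (hx : x ^ r = 1) (hy : y ^ r = 1) (hz : z ^ r = 1) (hxy : Commute x y) (hxz : Commute x z) (hyz : Commute y z)
    (hd : finrank F (cm x) = 2 * n) :
    ∃ i j k : ℕ, y * x ^ i = 1 ∨ z * x ^ j * (y * x ^ i) ^ k = 1 := by
  have hW0 : cm x ≠ ⊥ := fun h1 => by rw [h1, finrank_bot] at hd; omega
  have hWf : cm x ⊓ fx x = ⊥ := inf_fx_of_le_cm h.ne0 hx le_rfl
  obtain ⟨i, -, hi⟩ := exists_fixed h.prime h.ne0 hy hx hxy.symm (inv_cm_of_commute hxy.symm) inv_cm hW0 hWf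
  set w := y * x ^ i with hw
  have hcy : Commute y (x ^ i) := hxy.symm.pow_right i
  have hwr : w ^ r = 1 := by
    rw [hw, hcy.mul_pow, hy, ← pow_mul, mul_comm i r, pow_mul, hx, one_pow, one_mul]
  have hwx : Commute w x := hxy.symm.mul_left ((Commute.refl x).pow_left i)
  have hwz : Commute w z := hyz.mul_left (hxz.pow_left i)
  by_cases hle : cm x ≤ fx w
  · exact ⟨i, 0, 0, Or.inl (eq_one_of_triv h hn hV hx hwr hwx hd hle)⟩
  -- the decomposition of `[V, x]`
  have hI1 : Inv x (cm x ⊓ fx w) := inv_cm.inf (inv_fx_of_commute hwx.symm)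
  have hI2 : Inv x (cm x ⊓ cm w) := inv_cm.inf (inv_cm_of_commute hwx.symm)
  have hd1 : n ∣ finrank F ↥(cm x ⊓ fx w) := h.dvd hx hI1 (by
    rw [eq_bot_iff, ← hWf]
    exact inf_le_inf_right _ inf_le_left)
  have hsum := finrank_inf_add h.ne0 hwr (show Inv w (cm x) from inv_cm_of_commute hwx)
  have hlt : finrank F ↥(cm x ⊓ fx w) < 2 * n := by
    rw [← hd]
    refine Submodule.finrank_lt_finrank_of_lt (lt_of_le_of_ne inf_le_left fun h1 => hle ?_)
    rw [← h1]
    exact inf_le_right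
  have hpos : 0 < finrank F ↥(cm x ⊓ fx w) := Nat.pos_of_ne_zero fun h1 => hi (Submodule.finrank_eq_zero.1 h1)
  have hdim1 : finrank F ↥(cm x ⊓ fx w) = n := by
    obtain ⟨c, hc⟩ := hd1
    have h1 : 0 < c := Nat.pos_of_ne_zero fun h1 => by rw [h1, mul_zero] at hc; omega
    have h2 : c < 2 := by
      by_contra h2
      have h3 : n * 2 ≤ n * c := Nat.mul_le_mul_left n (by omega)
      omega
    have h3 : c = 1 := by omega
    rw [hc, h3, mul_one]
  have hdim2 : finrank F ↥(cm x ⊓ cm w) = n := by omega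
  -- `z` on the first part
  obtain ⟨j, -, hj⟩ := h.exists_triv hz hx hxz.symm
    ((inv_cm_of_commute hxz.symm).inf (inv_fx_of_commute hwz.symm)) hI1 hdim1 (by
      rw [eq_bot_iff, ← hWf]
      exact inf_le_inf_right _ inf_le_left)
  set u := z * x ^ j with hu
  have hczx : Commute z (x ^ j) := hxz.symm.pow_right j
  have hur : u ^ r = 1 := by
    rw [hu, hczx.mul_pow, hz, ← pow_mul, mul_comm j r, pow_mul, hx, one_pow, one_mul]
  have huw : Commute u w := hwz.symm.mul_left (hwx.symm.pow_left j)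
  have hux : Commute u x := hxz.symm.mul_left ((Commute.refl x).pow_left j)
  -- the second part
  obtain ⟨k, -, hk⟩ := h.exists_triv hur hwr huw
    ((inv_cm_of_commute hux).inf (inv_cm_of_commute huw))
    ((inv_cm_of_commute hwx).inf inv_cm) hdim2 (by
      rw [eq_bot_iff, ← (isCompl_fx_cm h.ne0 hwr).inf_eq_bot, inf_comm (fx w)]
      exact inf_le_inf_right _ inf_le_right)
  refine ⟨i, j, k, Or.inr ?_⟩
  have hcuw : Commute u (w ^ k) := huw.pow_right k
  have her : (u * w ^ k) ^ r = 1 := by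
    rw [hcuw.mul_pow, hur, ← pow_mul, mul_comm k r, pow_mul, hwr, one_pow, one_mul]
  refine eq_one_of_triv h hn hV hx her (hux.mul_left (hwx.pow_left k)) hd ?_
  have h1 : cm x ⊓ fx w ≤ fx (u * w ^ k) := by
    intro v hv
    rw [mem_fx, Module.End.mul_apply, pow_fx (mem_fx.1 hv.2) k]
    exact mem_fx.1 (hj hv)
  have h2 : (cm x ⊓ fx w) ⊔ (cm x ⊓ cm w) = cm x := by
    refine Submodule.eq_of_le_of_finrank_le (sup_le inf_le_left inf_le_left) ?_
    have h3 := Submodule.finrank_sup_add_finrank_inf_eq (cm x ⊓ fx w) (cm x ⊓ cm w)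
    have h4 : (cm x ⊓ fx w) ⊓ (cm x ⊓ cm w) = ⊥ := by
      rw [eq_bot_iff, ← (isCompl_fx_cm h.ne0 hwr).inf_eq_bot]
      exact inf_le_inf inf_le_right inf_le_right
    rw [h4, finrank_bot] at h3
    omega
  rw [← h2]
  exact sup_le h1 hk

end Lin

section Coord

variable {T : Type*} [Group T] {A : Subgroup T} {S : Type*} [Group S] {l : ℕ}

/-- the coordinate factor -/
def cf (e : A ≃* (Fin l → S)) (i : Fin l) : S →* T :=
  A.subtype.comp (e.symm.toMonoidHom.comp (MonoidHom.mulSingle (fun _ : Fin l => S) i))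

theorem cf_apply (e : A ≃* (Fin l → S)) (i : Fin l) (s : S) : cf e i s = ((e.symm (Pi.mulSingle i s) : A) : T) := rfl

theorem cf_inj (e : A ≃* (Fin l → S)) (i : Fin l) : Function.Injective (cf e i) :=
  A.subtype_injective.comp (e.symm.injective.comp (Pi.mulSingle_injective (M := fun _ : Fin l => S) i))

theorem cf_le (e : A ≃* (Fin l → S)) (i : Fin l) : (cf e i).range ≤ A := by
  rintro _ ⟨s, rfl⟩
  exact SetLike.coe_mem _

theorem cf_comm (e : A ≃* (Fin l → S)) {i j : Fin l} (hij : i ≠ j) (s t : S) :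
    cf e i s * cf e j t = cf e j t * cf e i s := by
  rw [cf_apply, cf_apply]
  have h3 : e.symm (Pi.mulSingle i s) * e.symm (Pi.mulSingle j t)
      = e.symm (Pi.mulSingle j t) * e.symm (Pi.mulSingle i s) := by
    rw [← map_mul, ← map_mul]
    congr 1
    exact Pi.mulSingle_commute (f := fun _ : Fin l => S) hij s t
  exact congrArg Subtype.val h3

/-- two coordinate factors -/
theorem cf_twoFac (hS : IsSimpleGroup S) (hSna : ¬ IsMulCommutative S) (e : A ≃* (Fin l → S)) {i j : Fin l}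
    (hij : i ≠ j) : TwoFac A (cf e i).range (cf e j).range := by
  have hnorm : ∀ i, ∀ a ∈ A, ∀ s ∈ (cf e i).range, a * s * a⁻¹ ∈ (cf e i).range := by
    rintro i a ha _ ⟨s, rfl⟩
    refine ⟨e ⟨a, ha⟩ i * s * (e ⟨a, ha⟩ i)⁻¹, ?_⟩
    rw [cf_apply, cf_apply]
    have h3 : (⟨a, ha⟩ : A) * e.symm (Pi.mulSingle i s) * (⟨a, ha⟩ : A)⁻¹
        = e.symm (Pi.mulSingle i (e ⟨a, ha⟩ i * s * (e ⟨a, ha⟩ i)⁻¹)) := by
      apply e.injective
      rw [map_mul, map_mul, map_inv, e.apply_symm_apply, e.apply_symm_apply]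
      funext j
      by_cases hj : j = i
      · subst hj
        simp
      · simp [Pi.mulSingle_eq_of_ne (M := fun _ : Fin l => S) hj]
    exact (congrArg Subtype.val h3).symm
  have hdec : ∀ i, ∀ a ∈ A, ∃ s ∈ (cf e i).range, ∃ a' ∈ A, a = s * a' ∧ ∀ t ∈ (cf e i).range, t * a' = a' * t := by
    intro i a ha
    let f : Fin l → S := e ⟨a, ha⟩
    let f' : Fin l → S := Function.update f i 1
    refine ⟨cf e i (f i), ⟨_, rfl⟩, (e.symm f' : A), SetLike.coe_mem _, ?_, ?_⟩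
    · rw [cf_apply]
      have h3 : (⟨a, ha⟩ : A) = e.symm (Pi.mulSingle i (f i)) * e.symm f' := by
        rw [← map_mul]
        apply e.injective
        rw [e.apply_symm_apply]
        funext j
        by_cases hj : j = i
        · subst hj
          simp [f', f]
        · simp [f', f, Pi.mulSingle_eq_of_ne (M := fun _ : Fin l => S) hj, Function.update_of_ne hj]
      exact congrArg Subtype.val h3
    · rintro _ ⟨t, rfl⟩
      rw [cf_apply]
      have h3 : e.symm (Pi.mulSingle i t) * e.symm f' = e.symm f' * e.symm (Pi.mulSingle i t) := by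
        rw [← map_mul, ← map_mul]
        congr 1
        funext j
        by_cases hj : j = i
        · subst hj
          simp [f']
        · simp [f', Pi.mulSingle_eq_of_ne (M := fun _ : Fin l => S) hj]
      exact congrArg Subtype.val h3
  refine ⟨cf_le e i, cf_le e j, (range_simple hS hSna (cf_inj e i)).1, (range_simple hS hSna (cf_inj e j)).1,
    (range_simple hS hSna (cf_inj e i)).2, (range_simple hS hSna (cf_inj e j)).2, ?_, hnorm i, hnorm j, hdec i, hdec j⟩
  rintro _ ⟨s, rfl⟩ _ ⟨t, rfl⟩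
  exact cf_comm e hij s t

theorem cf_card (e : A ≃* (Fin l → S)) (i : Fin l) : Nat.card (cf e i).range = Nat.card S :=
  Nat.card_congr ((cf e i).ofInjective (cf_inj e i)).toEquiv.symm

end Coord

/-- a coordinate -/
theorem cf_coord {T : Type*} [Group T] {A : Subgroup T} {S : Type*} [Group S] {l : ℕ} (e : A ≃* (Fin l → S))
    {i : Fin l} (s : S) {t : A} (ht : e t i = 1) (h : cf e i s * (t : T) = 1) : s = 1 := by
  have h1 : e.symm (Pi.mulSingle i s) * t = 1 := Subtype.ext h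
  have h2 := congrFun (congrArg e h1) i
  rw [map_mul, e.apply_symm_apply, Pi.mul_apply, Pi.mulSingle_eq_same, ht, mul_one, map_one] at h2
  exact h2

section EnvP

variable {T : Type*} [Group T] [Finite T] {G : Type*} [Group G] {F : Type*} [Field F] [Fintype F] {V : Type*}
  [AddCommGroup V] [Module F V] [FiniteDimensional F V] {r n : ℕ} {π : G →* T} {ρ : G →* Module.End F V}
  {A M : Subgroup T} {S : Type*} [Group S] [Finite S] {l : ℕ}

/-- all elements of order `r` of two factors are of type `2 n` -/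
def Big (r n : ℕ) (π : G →* T) (ρ : G →* Module.End F V) (A : Subgroup T) : Prop :=
  ∀ S₁ S₂ : Subgroup T, TwoFac A S₁ S₂ → r ∣ Nat.card S₁ → r ∣ Nat.card S₂ → ∀ z, π z ∈ S₁ ∨ π z ∈ S₂ → z ^ r = 1 →
    z ≠ 1 → finrank F (cm (ρ z)) = 2 * n

/-- there are only two factors -/
theorem two_eq (h : Env r n π ρ) (hS : IsSimpleGroup S) (hSna : ¬ IsMulCommutative S) (e : A ≃* (Fin l → S))
    (hl : 2 ≤ l) (hrS : r ∣ Nat.card S) (hty : Big r n π ρ A) : l = 2 := by
  by_contra hne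
  have hF := Fact.mk h.rd.prime
  obtain ⟨s, hs⟩ := exists_prime_orderOf_dvd_card' r hrS
  have hs1 : s ≠ 1 := by
    rintro rfl
    rw [orderOf_one] at hs
    exact h.rd.prime.one_lt.ne hs
  let a : Fin l := ⟨0, by omega⟩
  let b : Fin l := ⟨1, by omega⟩
  let c : Fin l := ⟨2, by omega⟩
  have hab : a ≠ b := by simp [a, b]
  have hac : a ≠ c := by simp [a, c]
  have hbc : b ≠ c := by simp [b, c]
  have ho : ∀ i, orderOf (cf e i s) = r := fun i => by rw [orderOf_injective _ (cf_inj e i), hs]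
  obtain ⟨x, hx, hxr, hx1⟩ := h.lift_ne (ho a)
  obtain ⟨y, hy, hyr, hy1⟩ := h.lift_ne (ho b)
  obtain ⟨z, hz, hzr, hz1⟩ := h.lift_ne (ho c)
  have hxy : Commute (ρ x) (ρ y) := h.comm' hxr (by rw [hx, hy]; exact cf_comm e hab s s)
  have hxz : Commute (ρ x) (ρ z) := h.comm' hxr (by rw [hx, hz]; exact cf_comm e hac s s)
  have hyz : Commute (ρ y) (ρ z) := h.comm' hyr (by rw [hy, hz]; exact cf_comm e hbc s s)
  have hd : finrank F (cm (ρ x)) = 2 * n := by
    refine hty _ _ (cf_twoFac hS hSna e hab) ?_ ?_ x (Or.inl ⟨s, hx.symm⟩) hxr hx1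
    · rw [cf_card]; exact hrS
    · rw [cf_card]; exact hrS
  obtain ⟨i, j, k, hor⟩ := rank_two h.rd (by have := h.n3; omega) h.dim (h.rpow hxr) (h.rpow hyr) (h.rpow hzr)
    hxy hxz hyz hd
  rcases hor with h1 | h1
  · rw [← map_pow, ← map_mul, ← map_one ρ] at h1
    have h2 := congrArg π (h.inj h1)
    rw [map_mul, map_pow, hx, hy, map_one] at h2
    refine hs1 (cf_coord e s (t := (e.symm (Pi.mulSingle a s)) ^ i) ?_ h2)
    rw [map_pow, e.apply_symm_apply, Pi.pow_apply, Pi.mulSingle_eq_of_ne (M := fun _ : Fin l => S) hab.symm, one_pow]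
  · rw [← map_pow, ← map_pow, ← map_mul, ← map_mul, ← map_pow, ← map_mul, ← map_one ρ] at h1
    have h2 := congrArg π (h.inj h1)
    rw [map_mul, map_mul, map_pow, map_pow, map_mul, map_pow, hx, hy, hz, map_one, mul_assoc] at h2
    refine hs1 (cf_coord e s (t := (e.symm (Pi.mulSingle a s)) ^ j *
      (e.symm (Pi.mulSingle b s) * (e.symm (Pi.mulSingle a s)) ^ i) ^ k) ?_ h2)
    rw [map_mul, map_pow, map_pow, map_mul, map_pow, e.apply_symm_apply, e.apply_symm_apply]
    simp only [Pi.mul_apply, Pi.pow_apply]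
    rw [Pi.mulSingle_eq_of_ne (M := fun _ : Fin l => S) hac.symm,
      Pi.mulSingle_eq_of_ne (M := fun _ : Fin l => S) hbc.symm]
    simp

/-- no element of order `r` of `A ∩ M` has a trivial coordinate -/
theorem coord_ne (hS : IsSimpleGroup S) (hSna : ¬ IsMulCommutative S) (e : A ≃* (Fin 2 → S)) (hrS : r ∣ Nat.card S)
    (hno : ∀ S₁ S₂ : Subgroup T, TwoFac A S₁ S₂ → r ∣ Nat.card S₁ → r ∣ Nat.card S₂ → ∀ y ∈ S₁, y ∈ M → orderOf y ≠ r)
    (x : A) (hx : (x : T) ∈ M) (hxr : orderOf x = r) : e x 0 ≠ 1 ∧ e x 1 ≠ 1 := by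
  have hr1 : ∀ i : Fin 2, r ∣ Nat.card (cf e i).range := fun i => by rw [cf_card]; exact hrS
  have hxr' : orderOf (x : T) = r := by rw [Subgroup.orderOf_coe, hxr]
  have key : ∀ i j : Fin 2, i ≠ j → e x i ≠ 1 := by
    intro i j hij h1
    refine hno _ _ (cf_twoFac hS hSna e hij.symm) (hr1 j) (hr1 i) x ⟨e x j, ?_⟩ hx hxr'
    rw [cf_apply]
    have h2 : e.symm (Pi.mulSingle j (e x j)) = x := by
      apply e.injective
      rw [e.apply_symm_apply]
      funext k
      by_cases hk : k = j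
      · subst hk
        rw [Pi.mulSingle_eq_same]
      · have hki : k = i := (show ∀ a b c : Fin 2, a ≠ b → c ≠ b → c = a by decide) i j k hij hk
        rw [Pi.mulSingle_eq_of_ne (M := fun _ : Fin 2 => S) hk, hki, h1]
    exact congrArg Subtype.val h2
  exact ⟨key 0 1 (by decide), key 1 0 (by decide)⟩

/-- the alternative -/
theorem alt_of [Finite G] (h : Env r n π ρ) (hS : IsSimpleGroup S) (hSna : ¬ IsMulCommutative S)
    (e : A ≃* (Fin 2 → S)) (hrS : r ∣ Nat.card S) (hty : Big r n π ρ A) {p f : ℕ} (hp : p.Prime)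
    (hF : Fintype.card F = p ^ f) (hr : Prim p (n * f) r) (hsc : ∀ k ∈ π.ker, ∃ c : F, ρ k = c • 1)
    {C : Type*} [AddCommGroup C] {B : V → V → C} (hl : ∀ u v w, B (u + v) w = B u w + B v w)
    (hr' : ∀ u v w, B w (u + v) = B w u + B w v) (hnd : ∀ u, u ≠ 0 → ∃ v, B u v ≠ 0)
    (hBρ : ∀ g u v, B (ρ g u) (ρ g v) = B u v) : Alt p f n r S := by
  have hFr := Fact.mk h.rd.prime
  obtain ⟨s, hs⟩ := exists_prime_orderOf_dvd_card' r hrS
  have hab : (0 : Fin 2) ≠ 1 := by decide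
  obtain ⟨x, hx, hxr, hx1⟩ := h.lift_ne (t := cf e 0 s) (by rw [orderOf_injective _ (cf_inj e 0), hs])
  have hd : finrank F (cm (ρ x)) = 2 * n := by
    refine hty _ _ (cf_twoFac hS hSna e hab) ?_ ?_ x (Or.inl ⟨s, hx.symm⟩) hxr hx1
    · rw [cf_card]; exact hrS
    · rw [cf_card]; exact hrS
  refine dk_lin hp hF h.n3 hr h.dim π h.surj ?_ ?_ ρ h.inj hsc hl hr' hnd hBρ hxr hd (S := S)
    (fun hc => hSna ⟨⟨hc⟩⟩) (cf e 1) (cf_inj e 1) (fun t => ?_) hrS
  · intro k hk
    rw [Subgroup.mem_center_iff]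
    intro g
    exact ((h.ker k hk).2 g).symm
  · intro hd
    obtain ⟨k, hk⟩ := exists_prime_orderOf_dvd_card' (G := π.ker) r hd
    have h1 := (h.ker k k.2).1
    have h2 : orderOf (k : G) = r := by rw [Subgroup.orderOf_coe, hk]
    have h3 := orderOf_dvd_of_pow_eq_one h1
    rw [h2] at h3
    have := Nat.le_of_dvd (by norm_num) h3
    have := h.rd.two_lt
    omega
  · rw [hx]
    exact (cf_comm e hab s t).symm

end EnvP

section Dvd

variable {T : Type} [Group T] [Finite T] {A M : Subgroup T} {S : Type*} [Group S] [Finite S] {p f n l r : ℕ}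

theorem not_dvd_small (hp : p.Prime) (hf : 1 ≤ f) (hn : 4 ≤ n) (hr : Prim p (n * f) r) :
    ¬ r ∣ 2 * f * Nat.gcd 2 (p - 1) ∧ ¬ r ∣ Nat.gcd 2 (p - 1) * (Nat.gcd 2 (p - 1) * f) := by
  have h1 : 3 ≤ n * f := by
    have := Nat.mul_le_mul hn hf
    omega
  have h2 := prim_lt hp.two_le h1 hr
  have h3 : f ≤ n * f := Nat.le_mul_of_pos_left f (by omega)
  have hrp := hr.prime
  have hg : ¬ r ∣ Nat.gcd 2 (p - 1) := fun h4 => by
    have := Nat.le_of_dvd (by norm_num) (h4.trans (Nat.gcd_dvd_left _ _))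
    omega
  have hf' : ¬ r ∣ f := fun h4 => by
    have := Nat.le_of_dvd (by omega) h4
    omega
  have h22 : ¬ r ∣ 2 := fun h4 => by
    have := Nat.le_of_dvd (by norm_num) h4
    omega
  constructor
  · rw [hrp.dvd_mul, hrp.dvd_mul]
    tauto
  · rw [hrp.dvd_mul, hrp.dvd_mul]
    tauto

theorem r_dvd_ominus (hF : Fac T A M S l) (hp : p.Prime) (hf : 1 ≤ f) (hn : 4 ≤ n) (hne : Even n)
    (hr : Prim p (n * f) r) (hM : AS (.ominus n (p ^ f)) M)
    (hT : Nat.gcd 2 (p ^ f - 1) * Nat.card T = (p ^ f) ^ (n ^ 2) * prB (p ^ f) n) : r ∣ Nat.card S := by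
  obtain ⟨m, hm, hTM⟩ := index_ominus hp hf hn hne hM hT
  have h1 : r ∣ M.index * m := by rw [hTM]; exact (hr.dvd dvd_rfl).mul_left _
  rcases hr.prime.dvd_mul.1 h1 with h2 | h2
  · exact hr.prime.dvd_of_dvd_pow (h2.trans hF.index_dvd)
  · exact absurd (h2.trans hm) (not_dvd_small hp hf hn hr).1

theorem r_dvd_plus (hF : Fac T A M S l) (hp : p.Prime) (hf : 1 ≤ f) (hn : 4 ≤ n) (hne : Even n)
    (hr : Prim p (n * f) r) (hM : AS (.psp (n - 1) (p ^ f)) M ∨ AS (.oodd (n - 1) (p ^ f)) M)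
    (hT : Nat.gcd 4 ((p ^ f) ^ n - 1) * Nat.card T =
      (p ^ f) ^ (n * (n - 1)) * (((p ^ f) ^ n - 1) * prB (p ^ f) (n - 1))) : r ∣ Nat.card S := by
  obtain ⟨m, hm, hTM⟩ := index_plus hp hf hn hne hM hT
  have h1 : r ∣ M.index * (Nat.gcd 2 (p - 1) * m) := by rw [hTM]; exact (hr.dvd dvd_rfl).mul_left _
  rcases hr.prime.dvd_mul.1 h1 with h2 | h2
  · exact hr.prime.dvd_of_dvd_pow (h2.trans hF.index_dvd)
  · exact absurd (h2.trans (Nat.mul_dvd_mul_left _ hm)) (not_dvd_small hp hf hn hr).2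

end Dvd

section End

variable {T : Type} [Group T] [Finite T] {G : Type*} [Group G] [Finite G] {F : Type*} [Field F] [Fintype F]
  {V : Type*} [AddCommGroup V] [Module F V] [FiniteDimensional F V] {r n : ℕ} {π : G →* T} {ρ : G →* Module.End F V}
  {A M : Subgroup T} {S : Type*} [Group S] [Finite S] [IsSimpleGroup S] {l p f : ℕ}

/-- **R1, all elements of order `r` of type `2 n`** -/
theorem end_ominus (h : Env r n π ρ) (hna : ¬ IsMulCommutative S) (hF : Fac T A M S l) (hp : p.Prime) (hf : 1 ≤ f)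
    (hq : Fintype.card F = p ^ f) (hn : 4 ≤ n) (hne : Even n) (hr : Prim p (n * f) r) (hM : AS (.ominus n (p ^ f)) M)
    (hT : Nat.gcd 2 (p ^ f - 1) * Nat.card T = (p ^ f) ^ (n ^ 2) * prB (p ^ f) n)
    (hsc : ∀ k ∈ π.ker, ∃ c : F, ρ k = c • 1) {C : Type*} [AddCommGroup C] {B : V → V → C}
    (hl : ∀ u v w, B (u + v) w = B u w + B v w) (hr' : ∀ u v w, B w (u + v) = B w u + B w v)
    (hnd : ∀ u, u ≠ 0 → ∃ v, B u v ≠ 0) (hBρ : ∀ g u v, B (ρ g u) (ρ g v) = B u v)
    (hty : Big r n π ρ A)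
    (hno : ∀ S₁ S₂ : Subgroup T, TwoFac A S₁ S₂ → r ∣ Nat.card S₁ → r ∣ Nat.card S₂ → ∀ y ∈ S₁, y ∈ M → orderOf y ≠ r) :
    False := by
  have hS : IsSimpleGroup S := inferInstance
  have hrS := r_dvd_ominus hF hp hf hn hne hr hM hT
  obtain ⟨e⟩ := hF.iso
  obtain rfl := two_eq h hS hna e hF.two_le hrS hty
  exact kill_ominus hF hp hf hn hne hr hrS (alt_of h hS hna e hrS hty hp hq hr hsc hl hr' hnd hBρ) e
    (coord_ne hS hna e hrS hno) hM hT

/-- **R2, all elements of order `r` of type `2 n`** -/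
theorem end_plus (h : Env r n π ρ) (hna : ¬ IsMulCommutative S) (hF : Fac T A M S l) (hp : p.Prime) (hf : 1 ≤ f)
    (hq : Fintype.card F = p ^ f) (hn : 4 ≤ n) (hne : Even n) (hr : Prim p (n * f) r)
    (hM : AS (.psp (n - 1) (p ^ f)) M ∨ AS (.oodd (n - 1) (p ^ f)) M)
    (hT : Nat.gcd 4 ((p ^ f) ^ n - 1) * Nat.card T =
      (p ^ f) ^ (n * (n - 1)) * (((p ^ f) ^ n - 1) * prB (p ^ f) (n - 1)))
    (hsc : ∀ k ∈ π.ker, ∃ c : F, ρ k = c • 1) {C : Type*} [AddCommGroup C] {B : V → V → C}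
    (hl : ∀ u v w, B (u + v) w = B u w + B v w) (hr' : ∀ u v w, B w (u + v) = B w u + B w v)
    (hnd : ∀ u, u ≠ 0 → ∃ v, B u v ≠ 0) (hBρ : ∀ g u v, B (ρ g u) (ρ g v) = B u v)
    (hty : Big r n π ρ A)
    (hno : ∀ S₁ S₂ : Subgroup T, TwoFac A S₁ S₂ → r ∣ Nat.card S₁ → r ∣ Nat.card S₂ → ∀ y ∈ S₁, y ∈ M → orderOf y ≠ r) :
    False := by
  have hS : IsSimpleGroup S := inferInstance
  have hrS := r_dvd_plus hF hp hf hn hne hr hM hT
  obtain ⟨e⟩ := hF.iso
  obtain rfl := two_eq h hS hna e hF.two_le hrS hty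
  exact kill_plus hF hp hf hn hne hr hrS (alt_of h hS hna e hrS hty hp hq hr hsc hl hr' hnd hBρ) e
    (coord_ne hS hna e hrS hno) hM hT

end End

end Cfsg.Agent.H946.DK
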