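import Cfsg.Agent.H953.Cyc.O8n
import Cfsg.Agent.H57.BG.AsDead
import Cfsg.Agent.S0144

/-!
# No factorization of `PΩ₈⁺(3)` with almost simple `M` (helper946, S3679)

`not_fac_three` : `T = PΩ₈⁺(3) = A M`, `A ≅ S ^ l`, `M` almost simple with socle `Sz(8)`, `G₂(4)`, `L₂(13)`, `Ω₇(3)`,
`PSp₆(3)`, `G₂(3)` or `L₂(27)` is impossible.
-/

set_option autoImplicit false
set_option maxRecDepth 100000

namespace Cfsg.Agent.H946.DK.P3

open Subgroup Cfsg Cfsg.Agent.OrdDiv Cfsg.Agent.H436 Cfsg.Agent.H915.GN Cfsg.Agent.H264.FKS Cfsg.Agent.H902 Cfsg.Agent.H902.Names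
open Cfsg.Agent.H884.El Cfsg.Agent.H884.Row Cfsg.Agent.H899.CG Cfsg.Agent.H899.Pt Cfsg.Agent.H953.O8
open Cfsg.Agent.H57.BG (aut_gen dd_g2 dd_sz)

/-- `a ^ 2 ∣ m ^ 2 d`, `d` square free: `a ∣ m` -/
theorem dvd_of_sq_dvd {a m d : ℕ} (hm : m ≠ 0) (hd : Squarefree d) (h : a ^ 2 ∣ m ^ 2 * d) : a ∣ m := by
  have hg : Nat.gcd a m ∣ m := Nat.gcd_dvd_right a m
  have hgp : 0 < Nat.gcd a m := Nat.gcd_pos_of_pos_right a (Nat.pos_of_ne_zero hm)
  obtain ⟨a', m', hc, ha, hm'⟩ := Nat.exists_coprime a m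
  set g := Nat.gcd a m with hgdef
  have h1 : a' ^ 2 * g ^ 2 ∣ m' ^ 2 * d * g ^ 2 := by
    have h2 : a ^ 2 = a' ^ 2 * g ^ 2 := by rw [ha, mul_pow]
    have h3 : m ^ 2 * d = m' ^ 2 * d * g ^ 2 := by rw [hm', mul_pow]; ring
    rwa [← h2, ← h3]
  have h2 : a' ^ 2 ∣ m' ^ 2 * d := Nat.dvd_of_mul_dvd_mul_right (pow_pos hgp 2) h1
  have h3 : a' ^ 2 ∣ d := (Nat.Coprime.pow 2 2 hc).dvd_of_dvd_mul_left h2
  have h4 : IsUnit a' := hd a' (by rwa [← pow_two])
  rw [Nat.isUnit_iff] at h4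
  rw [ha, h4, one_mul]
  exact hg

theorem sqf : Squarefree (91 : ℕ) := by
  rw [show (91 : ℕ) = 7 * 13 by norm_num]
  exact (Nat.squarefree_mul (by norm_num)).2 ⟨(by norm_num : Nat.Prime 7).prime.squarefree, (by norm_num : Nat.Prime 13).prime.squarefree⟩

theorem v3_index {T : Type*} [Group T] [Finite T] {M : Subgroup T} {K : ℕ} (hT : Nat.card T = 4952179814400)
    (hM : Nat.card M ∣ K) (hK : ¬ 3 ^ 8 ∣ K) : 3 ^ 5 ∣ M.index := by
  have h1 := M.card_mul_index
  rw [hT] at h1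
  have hp := Nat.prime_three
  have h2 : ¬ 3 ^ 8 ∣ Nat.card M := fun h => hK (h.trans hM)
  have hM0 : Nat.card M ≠ 0 := Nat.card_pos.ne'
  have hI0 : M.index ≠ 0 := by
    intro h
    rw [h, mul_zero] at h1
    omega
  rw [hp.pow_dvd_iff_le_factorization hM0] at h2
  have h3 : 3 ^ 12 ∣ Nat.card M * M.index := by rw [h1]; norm_num
  rw [hp.pow_dvd_iff_le_factorization (mul_ne_zero hM0 hI0), Nat.factorization_mul hM0 hI0, Finsupp.add_apply] at h3
  rw [hp.pow_dvd_iff_le_factorization hI0]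
  omega

theorem as_dvd {T : Type} [Group T] [Finite T] {M : Subgroup T} {g : Grp} {p d e s : ℕ} (h : AS g M) (hp : p.Prime)
    (hch : HasChar p g) (hd : ∀ X f, IsLie g X p f → Art.dd X (p ^ f) = d) (he : fld g = p ^ e) (hs : ordN g = s) :
    Nat.card M ∣ 24 * d * e * s := by
  obtain ⟨S, hSn, hSs, hna, hC, hS⟩ := h
  obtain ⟨c, haut, hcd, -⟩ := aut_gen hna hp hS hch hd he
  have h5 := dvd_aut S hC
  rw [haut, hS.ord, hs] at h5
  exact h5.trans (Nat.mul_dvd_mul_right (Nat.mul_dvd_mul_right hcd _) _)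

theorem small {T : Type} [Group T] [Finite T] {M : Subgroup T} {g : Grp} (hT : Nat.card T = 4952179814400)
    (h : AS g M) (hg : g = .sz 8 ∨ g = .g2 4 ∨ g = .psl 2 13 ∨ g = .g2 3 ∨ g = .psl 2 27) : 3 ^ 5 ∣ M.index := by
  rcases hg with rfl | rfl | rfl | rfl | rfl
  · exact v3_index hT (as_dvd (d := 1) (e := 3) (s := 29120) h Nat.prime_two ⟨3, by norm_num⟩ (fun X g h => dd_sz h)
      (by rfl) (by decide +kernel)) (by norm_num)
  · exact v3_index hT (as_dvd (d := 1) (e := 2) (s := 251596800) h Nat.prime_two ⟨2, by norm_num⟩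
      (fun X g h => dd_g2 h) (by rfl) (by decide +kernel)) (by norm_num)
  · exact v3_index hT (as_dvd (d := 2) (e := 1) (s := 1092) h (by norm_num : Nat.Prime 13) ⟨1, by norm_num⟩
      (fun X g h => (H349.BG.dd_psl h).trans (by norm_num)) (by rfl) (by decide +kernel)) (by norm_num)
  · exact v3_index hT (as_dvd (d := 1) (e := 1) (s := 4245696) h Nat.prime_three ⟨1, by norm_num⟩
      (fun X g h => dd_g2 h) (by rfl) (by decide +kernel)) (by norm_num)
  · exact v3_index hT (as_dvd (d := 2) (e := 3) (s := 9828) h Nat.prime_three ⟨3, by norm_num⟩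
      (fun X g h => (H349.BG.dd_psl h).trans (by norm_num)) (by rfl) (by decide +kernel)) (by norm_num)

theorem prim5 : Prim 3 4 5 := by
  obtain ⟨r, hr⟩ := exists_prim (q := 3) (e := 4) (by norm_num) (by norm_num) (by norm_num)
  have h1 : r ∣ 3 ^ 4 - 1 := (hr.dvd_iff 4).2 dvd_rfl
  have h2 := prim_lt (by norm_num) (by norm_num) hr
  have h3 : r ∣ 2 ^ 4 * 5 := h1
  rcases hr.prime.dvd_mul.1 h3 with h4 | h4
  · have := Nat.le_of_dvd (by norm_num) (hr.prime.dvd_of_dvd_pow h4)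
    omega
  · have h5 := (Nat.prime_dvd_prime_iff_eq hr.prime (by norm_num)).1 h4
    rwa [h5] at hr

variable {F : Type} [Field F] [Fintype F] {S : Type*} [Group S] [Finite S]
  {A M : Subgroup (Cfsg.POmega F (Cfsg.quadFormPlus 4 F))} {l : ℕ}

theorem card_T (hq : Fintype.card F = 3) : Nat.card (Cfsg.POmega F (Cfsg.quadFormPlus 4 F)) = 4952179814400 := by
  have h := card_plus (F := F) (p := 3) (f := 1) Nat.prime_three (by rw [hq, pow_one])
  norm_num at h
  omega

theorem five_dvd (hq : Fintype.card F = 3) (hS : IsSimpleGroup S) (hna : ¬ IsMulCommutative S)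
    (h : Fac (Cfsg.POmega F (Cfsg.quadFormPlus 4 F)) A M S l) : 5 ∣ Nat.card S := by
  by_contra h5
  have h1 : Nat.card S ^ 2 ∣ 233280 ^ 2 * 91 := by
    have h2 : Nat.card S ^ 2 ∣ Nat.card (Cfsg.POmega F (Cfsg.quadFormPlus 4 F)) :=
      (pow_dvd_pow _ h.two_le).trans h.pow_dvd_card
    rw [card_T hq] at h2
    exact h2
  have h2 := dvd_of_sq_dvd (by norm_num) sqf h1
  have h3 : Nat.card S ∣ 2 ^ 6 * 3 ^ 6 := by
    have h4 : Nat.card S ∣ 5 * (2 ^ 6 * 3 ^ 6) := h2
    have h6 : Nat.Coprime (Nat.card S) 5 := ((Nat.Prime.coprime_iff_not_dvd (by norm_num)).2 h5).symm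
    exact h6.dvd_of_dvd_mul_left h4
  obtain ⟨y, z, hy, hz, hyz⟩ := Nat.dvd_mul.1 h3
  obtain ⟨a, -, rfl⟩ := (Nat.dvd_prime_pow Nat.prime_two).1 hy
  obtain ⟨b, -, rfl⟩ := (Nat.dvd_prime_pow Nat.prime_three).1 hz
  have h6 := S0144.result (G := S) 2 3 a b Nat.prime_two Nat.prime_three hyz.symm
  exact hna ⟨⟨IsSimpleGroup.comm_iff_isSolvable.2 h6⟩⟩

/-- **the order of `A ∩ M`** (`H953.O8.dk_inter` with the sharp conclusion) -/
theorem inter {p f r : ℕ} (hr : PP (Nat.card F) 4 r) (hp : p.Prime) (hf1 : 1 ≤ f) (hrP : Prim p (4 * f) r)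
    (hS : IsSimpleGroup S) (hna : ¬ IsMulCommutative S)
    (ψ : S × S →* Cfsg.POmega F (Cfsg.quadFormPlus 4 F)) (hψ : Function.Injective ψ) (hA : ψ.range = A)
    (hf : ∀ t, ∃ a ∈ A, ∃ m ∈ M, t = a * m) (hM : NoSq M r) {E : Type} [Field E] [Fintype E]
    (hE : Fintype.card E = p ^ (2 * f)) (e : S ≃* Matrix.ProjectiveSpecialLinearGroup (Fin 2) E)
    (hrS : r ∣ Nat.card S) (hrD : r ∣ Nat.card (A ⊓ M : Subgroup _)) :
    Nat.card (A ⊓ M : Subgroup _) = Nat.card S ∨
      Nat.card (A ⊓ M : Subgroup _) ∣ 2 * ((p ^ (2 * f) + 1) / Nat.gcd 2 (p ^ (2 * f) - 1)) ^ 2 ∨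
      (r = 5 ∧ Nat.card (A ⊓ M : Subgroup _) = 60) := by
  have hpf := Fact.mk hp
  have hrf := Fact.mk hr.prime
  have hfP := finite_pomega (F := F)
  -- reality
  have hreal : ∀ s : S, orderOf s = r → ∃ g, g * s * g⁻¹ = s⁻¹ := by
    intro s hs
    have hchar : CharP E p := by
      obtain ⟨l, hl⟩ := CharP.exists E
      obtain ⟨n, hlp, hn⟩ := FiniteField.card E l
      have h1 : l ∣ p ^ (2 * f) := by
        rw [← hE, hn]
        exact dvd_pow_self l n.2.ne'
      have h2 := (Nat.prime_dvd_prime_iff_eq hlp hp).1 (hlp.dvd_of_dvd_pow h1)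
      rw [← h2]
      exact hl
    rcases H906.PSL2_real_or_unip p (e s) with ⟨y, hy⟩ | hy
    · refine ⟨e.symm y, e.injective ?_⟩
      rw [map_mul, map_mul, map_inv, map_inv, e.apply_symm_apply]
      exact hy
    · exfalso
      have h2 : s ^ p = 1 := e.injective (by rw [map_pow, hy, map_one])
      have h3 := orderOf_dvd_of_pow_eq_one h2
      rw [hs] at h3
      have h4 := (Nat.prime_dvd_prime_iff_eq hr.prime hp).1 h3
      exact hrP.not_dvd (by rw [h4])
  have hinv : ∀ d : (A ⊓ M : Subgroup (Cfsg.POmega F (Cfsg.quadFormPlus 4 F))), ∃ c, ψ c = d := by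
    intro d
    have h1 : (d : Cfsg.POmega F (Cfsg.quadFormPlus 4 F)) ∈ A := d.2.1
    exact hA.symm.le h1
  let π : (A ⊓ M : Subgroup (Cfsg.POmega F (Cfsg.quadFormPlus 4 F))) →* S × S :=
    { toFun := fun d => (hinv d).choose
      map_one' := hψ (by rw [(hinv 1).choose_spec, map_one]; rfl)
      map_mul' := fun a b => hψ (by
        rw [(hinv (a * b)).choose_spec, map_mul, (hinv a).choose_spec, (hinv b).choose_spec]; rfl) }
  have hπ : ∀ d, ψ (π d) = d := fun d => (hinv d).choose_spec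
  have hπi : ∀ d, π d = 1 → d = 1 := by
    intro d hd
    apply Subtype.ext
    rw [← hπ d, hd, map_one]
    rfl
  refine H946.DK.dk_grp' hp hE (by omega) (by rwa [show 2 * (2 * f) = 4 * f by omega]) e hrS
    ((MonoidHom.fst S S).comp π) ((MonoidHom.snd S S).comp π) (fun d h1 h2 => hπi d (Prod.ext h1 h2)) ?_ ?_ hrD
  · intro h
    obtain ⟨k, hk⟩ := exists_prime_orderOf_dvd_card' r h
    have h1 : (π k.1).1 = 1 := k.2
    have h2 : orderOf (k.1 : (A ⊓ M : Subgroup (Cfsg.POmega F (Cfsg.quadFormPlus 4 F)))) = r := by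
      rw [Subgroup.orderOf_coe, hk]
    have h3 : π k.1 = (1, (π k.1).2) := Prod.ext h1 rfl
    have h4 : orderOf (π k.1).2 = r := by
      have h5 : orderOf (π k.1) = r := by
        rw [← h2]
        refine orderOf_injective π ?_ _
        rw [injective_iff_map_eq_one]
        exact hπi
      rw [h3, Prod.orderOf_mk, orderOf_one, Nat.lcm_one_left] at h5
      exact h5
    obtain ⟨g, hg⟩ := hreal _ h4
    apply no_snd hr hS hna ψ hψ hA hf hM h4 hg
    rw [← h3, hπ]
    exact k.1.2.2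
  · intro h
    obtain ⟨k, hk⟩ := exists_prime_orderOf_dvd_card' r h
    have h1 : (π k.1).2 = 1 := k.2
    have h2 : orderOf (k.1 : (A ⊓ M : Subgroup (Cfsg.POmega F (Cfsg.quadFormPlus 4 F)))) = r := by
      rw [Subgroup.orderOf_coe, hk]
    have h3 : π k.1 = ((π k.1).1, 1) := Prod.ext rfl h1
    have h4 : orderOf (π k.1).1 = r := by
      have h5 : orderOf (π k.1) = r := by
        rw [← h2]
        refine orderOf_injective π ?_ _
        rw [injective_iff_map_eq_one]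
        exact hπi
      rw [h3, Prod.orderOf_mk, orderOf_one, Nat.lcm_one_right] at h5
      exact h5
    obtain ⟨g, hg⟩ := hreal _ h4
    apply no_fst hr hS hna ψ hψ hA hf hM h4 hg
    rw [← h3, hπ]
    exact k.1.2.2

/-- **`PΩ₈⁺(3)` has no factorization `A M` with `A ≅ S ^ l` and `M` almost simple as listed** -/
theorem not_fac_three (hq : Fintype.card F = 3) (hS : IsSimpleGroup S) (hna : ¬ IsMulCommutative S) {g : Grp}
    (hM : AS g M) (hg : g = .sz 8 ∨ g = .g2 4 ∨ g = .psl 2 13 ∨ g = .oodd 3 3 ∨ g = .psp 3 3 ∨ g = .g2 3 ∨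
      g = .psl 2 27) : ¬ Fac (Cfsg.POmega F (Cfsg.quadFormPlus 4 F)) A M S l := by
  intro h
  have hfin := finite_pomega (F := F)
  have h5 := five_dvd hq hS hna h
  have hT := card_T hq
  have hr5 : (5 : ℕ).Prime := by norm_num
  have hrP : Prim 3 (4 * 1) 5 := prim5
  have hF : Fintype.card F = 3 ^ 1 := by rw [hq, pow_one]
  have hr : PP (Nat.card F) 4 5 := by
    rw [Nat.card_eq_fintype_card, hq]
    exact H884.Ig.pp_of_prim (by norm_num) prim5
  obtain rfl := fac_eq_two hr h h5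
  -- the factors
  obtain ⟨e₀⟩ := h.iso
  let σ : S × S ≃* (Fin 2 → S) :=
    { toFun := fun c => ![c.1, c.2]
      invFun := fun g => (g 0, g 1)
      left_inv := fun c => rfl
      right_inv := fun g => by
        funext i
        fin_cases i <;> rfl
      map_mul' := fun a b => by
        funext i
        fin_cases i <;> rfl }
  let ψ : S × S →* Cfsg.POmega F (Cfsg.quadFormPlus 4 F) := A.subtype.comp ((σ.trans e₀.symm).toMonoidHom)
  have hψ : Function.Injective ψ := A.subtype_injective.comp (σ.trans e₀.symm).injective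
  have hA : ψ.range = A := by
    show (A.subtype.comp ((σ.trans e₀.symm).toMonoidHom)).range = A
    rw [MonoidHom.range_comp, MonoidHom.range_eq_top.2 (σ.trans e₀.symm).surjective, ← MonoidHom.range_eq_map,
      Subgroup.range_subtype]
  have hidx := h.index_dvd
  -- the structure of `S`
  have hSc : (∃ (E : Type) (_ : Field E) (_ : Fintype E), Fintype.card E = 3 ^ (2 * 1) ∧
      Nonempty (S ≃* Matrix.ProjectiveSpecialLinearGroup (Fin 2) E) ∧ Nat.card S = 360) ∨ Nat.card S ∣ 60 := by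
    rcases struct hr Nat.prime_three le_rfl hF hrP hS hna ψ hψ h5 with ⟨E, i1, i2, hE, ⟨eE⟩⟩ | ⟨-, h1⟩ | h1
    · left
      refine ⟨E, i1, i2, hE, ⟨eE⟩, ?_⟩
      have h1 := ClassicalGeometry.PSL2Basic.card_PSL2_gcd E
      rw [hE, ← Nat.card_congr eE.toEquiv] at h1
      norm_num at h1
      omega
    · exact Or.inr h1
    · right
      refine h1.trans ?_
      norm_num
  have h35 : ¬ 3 ^ 3 ∣ M.index ∨ Nat.card S = 360 := by
    rcases hSc with ⟨-, -, -, -, -, h1⟩ | h1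
    · exact Or.inr h1
    · left
      intro h2
      have h3 := (h2.trans hidx).trans (pow_dvd_pow_of_dvd h1 2)
      revert h3
      norm_num
  have h36 : ¬ 3 ^ 5 ∣ M.index := by
    intro h2
    rcases h35 with h3 | h3
    · exact h3 ((pow_dvd_pow 3 (by norm_num)).trans h2)
    · rw [h3] at hidx
      have h4 := h2.trans hidx
      revert h4
      norm_num
  by_cases hgs : g = .sz 8 ∨ g = .g2 4 ∨ g = .psl 2 13 ∨ g = .g2 3 ∨ g = .psl 2 27
  · exact h36 (small hT hM hgs)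
  have hg' : g = .oodd 3 (3 ^ 1) ∨ g = .psp 3 (3 ^ 1) := by
    rw [pow_one]
    tauto
  -- the orders
  have hsq := noSq_as7 hM Nat.prime_three le_rfl hg' (r := 5) (by rw [pow_one]; exact prim5) (by norm_num)
  obtain ⟨N, e, hMe, hR, he⟩ := card_as7 hM Nat.prime_three le_rfl hg'
  have hN : N = 4585351680 := by
    have h1 : Nat.gcd 2 (3 ^ 1 - 1) * N = (3 ^ 1) ^ 9 * ∏ i ∈ Finset.range 3, ((3 ^ 1) ^ (2 * (i + 1)) - 1) := hR.eq
    simp [Finset.prod_range_succ] at h1
    omega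
  have he2 : e ∣ 2 := by
    have h1 : e ∣ Nat.gcd 2 (3 ^ 1 - 1) * 1 := he
    norm_num at h1
    exact h1
  have hmi := M.card_mul_index
  rw [hMe, hN, hT] at hmi
  have hmi' : e * M.index = 1080 := by
    have h1 : 4585351680 * (e * M.index) = 4585351680 * 1080 := by rw [← mul_assoc, hmi]
    exact Nat.eq_of_mul_eq_mul_left (by norm_num) h1
  have he12 := (Nat.dvd_prime Nat.prime_two).1 he2
  rcases h35 with h37 | h360
  · apply h37
    have h1 : 3 ^ 3 ∣ e * M.index := by rw [hmi']; norm_num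
    have h2 : Nat.Coprime (3 ^ 3) e := by
      rcases he12 with rfl | rfl <;> norm_num
    exact h2.dvd_of_dvd_mul_left h1
  rcases hSc with ⟨E, i1, i2, hE, ⟨eE⟩, -⟩ | h60
  swap
  · rw [h360] at h60
    revert h60
    norm_num
  have hcm := h.card_mul
  rw [h.card_eq, hMe, hN, hT, h360] at hcm
  have hD : Nat.card (A ⊓ M : Subgroup _) = 120 * e := by omega
  have hrD : 5 ∣ Nat.card (A ⊓ M : Subgroup _) := by rw [hD]; exact (by norm_num : 5 ∣ 120).mul_right _
  rcases inter hr Nat.prime_three le_rfl hrP hS hna ψ hψ hA h.fac hsq hE eE h5 hrD with h1 | h1 | ⟨-, h1⟩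
  · rw [hD, h360] at h1
    omega
  · rw [hD] at h1
    have h2 := Nat.le_of_dvd (by norm_num) h1
    norm_num at h2
    omega
  · rw [hD] at h1
    omega

end Cfsg.Agent.H946.DK.P3
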