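import Mathlib
import Cfsg.Prelude.Def_Classical

/-!
# Two commuting elements of order three in `O⁺₄(F)` (helper946, S3679)
-/

set_option autoImplicit false

namespace Cfsg.Agent.H946.DK.Three

open Matrix

variable (F : Type*) [Field F]

/-- the first matrix -/
def m1 : Matrix (Fin 2 ⊕ Fin 2) (Fin 2 ⊕ Fin 2) F := Matrix.fromBlocks !![0, 1; -1, -1] 0 0 !![-1, 1; -1, 0]

/-- the second matrix -/
def m2 : Matrix (Fin 2 ⊕ Fin 2) (Fin 2 ⊕ Fin 2) F :=
  Matrix.fromBlocks !![-1, 0; 0, -1] !![0, 1; -1, 0] !![0, 1; -1, 0] 0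

theorem m1_cube : m1 F * m1 F * m1 F = 1 := by
  rw [← fromBlocks_one, m1, fromBlocks_multiply, fromBlocks_multiply]
  congr 1
  all_goals
    ext i j
    fin_cases i <;> fin_cases j <;> simp [Matrix.mul_apply, Fin.sum_univ_two]

theorem m2_cube : m2 F * m2 F * m2 F = 1 := by
  rw [← fromBlocks_one, m2, fromBlocks_multiply, fromBlocks_multiply]
  congr 1
  all_goals
    ext i j
    fin_cases i <;> fin_cases j <;> simp [Matrix.mul_apply, Fin.sum_univ_two]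

theorem m12 : m1 F * m2 F = m2 F * m1 F := by
  rw [m1, m2, fromBlocks_multiply, fromBlocks_multiply]
  congr 1
  all_goals
    ext i j
    fin_cases i <;> fin_cases j <;> simp [Matrix.mul_apply, Fin.sum_univ_two]

theorem m1_form (v : Fin 2 ⊕ Fin 2 → F) : quadFormPlus 2 F (m1 F *ᵥ v) = quadFormPlus 2 F v := by
  simp only [quadFormPlus, m1, Fin.sum_univ_two, Matrix.mulVec, dotProduct, Fintype.sum_sum_type, fromBlocks_apply₁₁,
    fromBlocks_apply₁₂, fromBlocks_apply₂₁, fromBlocks_apply₂₂]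
  simp
  ring

theorem m2_form (v : Fin 2 ⊕ Fin 2 → F) : quadFormPlus 2 F (m2 F *ᵥ v) = quadFormPlus 2 F v := by
  simp only [quadFormPlus, m2, Fin.sum_univ_two, Matrix.mulVec, dotProduct, Fintype.sum_sum_type, fromBlocks_apply₁₁,
    fromBlocks_apply₁₂, fromBlocks_apply₂₁, fromBlocks_apply₂₂]
  simp
  ring

/-- the first element -/
def w1 : isometryGroup F (quadFormPlus 2 F) :=
  ⟨⟨m1 F, m1 F * m1 F, by rw [← mul_assoc]; exact m1_cube F, m1_cube F⟩, fun u _ => m1_form F u⟩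

/-- the second element -/
def w2 : isometryGroup F (quadFormPlus 2 F) :=
  ⟨⟨m2 F, m2 F * m2 F, by rw [← mul_assoc]; exact m2_cube F, m2_cube F⟩, fun u _ => m2_form F u⟩

/-- the matrix -/
def mt (x : isometryGroup F (quadFormPlus 2 F)) : Matrix (Fin 2 ⊕ Fin 2) (Fin 2 ⊕ Fin 2) F :=
  Units.val (x : Matrix.GeneralLinearGroup (Fin 2 ⊕ Fin 2) F)

theorem ext_mat {x y : isometryGroup F (quadFormPlus 2 F)} (h : mt F x = mt F y) : x = y :=
  Subtype.ext (Units.ext h)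

theorem mt_pow (x : isometryGroup F (quadFormPlus 2 F)) (k : ℕ) : mt F (x ^ k) = mt F x ^ k := by
  unfold mt
  rw [Subgroup.coe_pow, Units.val_pow_eq_pow_val]

theorem mt_mul (x y : isometryGroup F (quadFormPlus 2 F)) : mt F (x * y) = mt F x * mt F y := rfl

theorem mt_one : mt F 1 = 1 := rfl

theorem mt_w1 : mt F (w1 F) = m1 F := rfl

theorem mt_w2 : mt F (w2 F) = m2 F := rfl

theorem m1_blocks (k : ℕ) : ∃ a b, m1 F ^ k = fromBlocks a 0 0 b := by
  induction k with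
  | zero => exact ⟨1, 1, by rw [pow_zero, fromBlocks_one]⟩
  | succ k ih =>
    obtain ⟨a, b, h⟩ := ih
    refine ⟨a * !![0, 1; -1, -1], b * !![-1, 1; -1, 0], ?_⟩
    rw [pow_succ, h, m1, fromBlocks_multiply]
    simp

theorem orderOf_w1 : orderOf (w1 F) = 3 := by
  have : Fact (Nat.Prime 3) := ⟨Nat.prime_three⟩
  refine orderOf_eq_prime (ext_mat F ?_) fun h => ?_
  · rw [mt_pow, mt_w1, pow_succ, pow_succ, pow_one, m1_cube, mt_one]
  · have h1 := congrArg (mt F) h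
    rw [mt_w1, mt_one] at h1
    have h2 : m1 F (Sum.inl 0) (Sum.inl 1) = 1 := by simp [m1]
    have h3 : (1 : Matrix (Fin 2 ⊕ Fin 2) (Fin 2 ⊕ Fin 2) F) (Sum.inl 0) (Sum.inl 1) = 0 :=
      Matrix.one_apply_ne (by decide)
    rw [h1, h3] at h2
    exact zero_ne_one h2

theorem orderOf_w2 : orderOf (w2 F) = 3 := by
  have : Fact (Nat.Prime 3) := ⟨Nat.prime_three⟩
  refine orderOf_eq_prime (ext_mat F ?_) fun h => ?_
  · rw [mt_pow, mt_w2, pow_succ, pow_succ, pow_one, m2_cube, mt_one]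
  · have h1 := congrArg (mt F) h
    rw [mt_w2, mt_one] at h1
    have h2 : m2 F (Sum.inr 0) (Sum.inl 1) = 1 := by simp [m2]
    have h3 : (1 : Matrix (Fin 2 ⊕ Fin 2) (Fin 2 ⊕ Fin 2) F) (Sum.inr 0) (Sum.inl 1) = 0 :=
      Matrix.one_apply_ne (by decide)
    rw [h1, h3] at h2
    exact zero_ne_one h2

theorem w12 : w1 F * w2 F = w2 F * w1 F := by
  apply ext_mat
  rw [mt_mul, mt_mul, mt_w1, mt_w2]
  exact m12 F

theorem w2_not_mem : w2 F ∉ Subgroup.zpowers (w1 F) := by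
  intro h
  have hfin : IsOfFinOrder (w1 F) := orderOf_pos_iff.1 (by rw [orderOf_w1]; norm_num)
  obtain ⟨k, hk⟩ := (hfin.mem_powers_iff_mem_zpowers).2 h
  have hk' : w1 F ^ k = w2 F := hk
  obtain ⟨a, b, hab⟩ := m1_blocks F k
  have h1 := congrArg (mt F) hk'
  rw [mt_pow, mt_w1, mt_w2, hab] at h1
  have h2 : m2 F (Sum.inr 0) (Sum.inl 1) = 1 := by simp [m2]
  rw [← h1] at h2
  exact zero_ne_one h2

/-- **`C₃ × C₃` in `O⁺₄(F)`** -/
theorem exists_three : ∃ w₁ w₂ : isometryGroup F (quadFormPlus 2 F), orderOf w₁ = 3 ∧ orderOf w₂ = 3 ∧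
    w₁ * w₂ = w₂ * w₁ ∧ w₂ ∉ Subgroup.zpowers w₁ :=
  ⟨w1 F, w2 F, orderOf_w1 F, orderOf_w2 F, w12 F, w2_not_mem F⟩

end Cfsg.Agent.H946.DK.Three
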