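import Cfsg.Agent.H899.Pt.RowSp
import Cfsg.Agent.H946.DK.Three

/-!
# `Sp₈(2)`, `M` almost simple with socle `Ω⁻₈(2)` (helper946, S3679)

* `comm3_minus_three` : in `PΩ⁻₈(q)` an element of order `r`, `ord_r(q) = 4`, commutes with a subgroup `C₃ × C₃`;
* `not_fac_sp8` : no factorization `Sp₈(2) = A M`.
-/

set_option autoImplicit false
set_option linter.unusedVariables false

namespace Cfsg.Agent.H946.DK

open Cfsg Matrix QuadraticMap Cfsg.Agent.LieClassical.OmegaReindex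
open Cfsg.Agent.OrdDiv Cfsg.Agent.H436 Cfsg.Agent.H884.El Cfsg.Agent.H884.Ig Cfsg.Agent.H884.Mx

/-- **`PΩ⁻₈(q)`** -/
theorem comm3_minus_three {F : Type} [Field F] [Fintype F] {q r : ℕ} (hF : Fintype.card F = q) {a b : F}
    (hab : ∀ z₁ z₂ : F, z₁ ^ 2 + a * z₁ * z₂ + b * z₂ ^ 2 = 0 → z₁ = 0 ∧ z₂ = 0) (hr : Prim q 4 r) :
    ∃ x w₁ w₂ : POmega F (quadFormMinus 3 F a b), orderOf x = r ∧ orderOf w₁ = 3 ∧ orderOf w₂ = 3 ∧
      x * w₁ = w₁ * x ∧ x * w₂ = w₂ * x ∧ w₁ * w₂ = w₂ * w₁ ∧ w₂ ∉ Subgroup.zpowers w₁ := by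
  have hrp := Fact.mk hr.prime
  have h1 : r ∣ Nat.card (isometryGroup F (quadFormMinus (2 - 1) F a b)) := by
    rw [S0288.result hF 2 (by omega) a b hab]
    refine Dvd.dvd.mul_right (Dvd.dvd.mul_left ?_ _) _
    exact hr.dvd_add (by norm_num) (by norm_num)
  obtain ⟨x₀, hx₀⟩ := exists_prime_orderOf_dvd_card' r h1
  obtain ⟨w, w', hw, hw', hww, hnw⟩ := Three.exists_three F
  have hr2 : r ≠ 2 := by
    have := hr.odd (by omega)
    omega
  -- the embedding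
  let φ : isometryGroup F (quadFormPlus 2 F) × isometryGroup F (quadFormMinus 1 F a b) →*
      isometryGroup F (quadFormMinus (2 + 1) F a b) := minusSum 2 1 a b
  have hφ : Function.Injective φ := minusSum_injective 2 1 a b
  have hcard : Fintype.card ((Fin 3 ⊕ Fin 3) ⊕ Fin 2) = 8 := by decide
  refine exists_comm3' (quadMinus 3 F a b) (quadMinus_nondegenerate hab) (by rw [hcard]; norm_num)
    (quadMinus_isotropic (by omega) _ _) (coe_quadMinus _ _ _ _) (x := φ (1, x₀)) (w₁ := φ (w, 1))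
    (w₂ := φ (w', 1)) hr.prime hr2 Nat.prime_three (by norm_num) ?_ ?_ ?_ ?_ ?_ ?_ ?_
  · rw [orderOf_injective _ hφ, Prod.orderOf_mk, orderOf_one, Nat.lcm_one_left]
    exact hx₀
  · rw [orderOf_injective _ hφ, Prod.orderOf_mk, orderOf_one, hw, Nat.lcm_one_right]
  · rw [orderOf_injective _ hφ, Prod.orderOf_mk, orderOf_one, hw', Nat.lcm_one_right]
  · rw [← map_mul, ← map_mul]
    congr 1
    simp
  · rw [← map_mul, ← map_mul]
    congr 1
    simp
  · rw [← map_mul, ← map_mul, Prod.mk_mul_mk, Prod.mk_mul_mk, hww]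
  · intro h
    obtain ⟨k, hk⟩ := Subgroup.mem_zpowers_iff.1 h
    rw [← map_zpow] at hk
    have h3 := hφ hk
    have h4 := congrArg (fun y => y.1) h3
    exact hnw (Subgroup.mem_zpowers_iff.2 ⟨k, h4⟩)

/-- **Part B, `n = 4`, `C₃ × C₃`** -/
theorem partB4_three {T : Type*} [Group T] {M : Subgroup T} {p f r : ℕ} (hf : 1 ≤ f)
    (hM : ∃ S : Subgroup M, S.Normal ∧ IsSimpleGroup S ∧ ¬ IsMulCommutative S ∧
      Subgroup.centralizer (S : Set M) = ⊥ ∧ IsNamed (.ominus 4 (p ^ f)) S) (hr : Prim p (4 * f) r) :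
    ∃ x w₁ w₂ : T, x ∈ M ∧ w₁ ∈ M ∧ w₂ ∈ M ∧ orderOf x = r ∧ orderOf w₁ = 3 ∧ orderOf w₂ = 3 ∧
        x * w₁ = w₁ * x ∧ x * w₂ = w₂ * x ∧ w₁ * w₂ = w₂ * w₁ ∧ w₂ ∉ Subgroup.zpowers w₁ := by
  obtain ⟨S, -, -, -, -, hS⟩ := hM
  obtain ⟨F, _, _, a, b, hF, hab, ⟨e⟩⟩ := hS.real
  obtain ⟨x, w₁, w₂, hx, h1, h2, hx1, hx2, h12, hne⟩ := comm3_minus_three hF hab (H884.Mx.prim_pow hf hr)
  have hinj : Function.Injective (M.subtype.comp (S.subtype.comp e.symm.toMonoidHom)) :=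
    M.subtype_injective.comp (S.subtype_injective.comp e.symm.injective)
  set ψ := M.subtype.comp (S.subtype.comp e.symm.toMonoidHom) with hψ
  have hmem : ∀ y, ψ y ∈ M := fun y => (S.subtype (e.symm y)).2
  refine ⟨ψ x, ψ w₁, ψ w₂, hmem _, hmem _, hmem _, ?_, ?_, ?_, ?_, ?_, ?_, ?_⟩
  · rw [orderOf_injective _ hinj, hx]
  · rw [orderOf_injective _ hinj, h1]
  · rw [orderOf_injective _ hinj, h2]
  · rw [← map_mul, hx1, map_mul]
  · rw [← map_mul, hx2, map_mul]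
  · rw [← map_mul, h12, map_mul]
  · intro h
    obtain ⟨k, hk⟩ := Subgroup.mem_zpowers_iff.1 h
    rw [← map_zpow] at hk
    exact hne ⟨k, hinj hk⟩

section PSp

open Module Cfsg.Agent.H951 Cfsg.Agent.H884.Cg Cfsg.Agent.H899.CG Cfsg.Agent.H899.Pt
open Cfsg.Agent.H57.BG (AS repS)
open Cfsg.Agent.ClassicalGeometry.SympBasic

variable {F : Type} [Field F] [Fintype F] {S : Type*} [Group S] [Finite S] {l : ℕ} {A M : Subgroup (PSp 4 F)}

/-- **`Sp₈(2)`** -/
theorem not_fac_sp8 (hq2 : Fintype.card F = 2) (hS : IsSimpleGroup S) (hSna : ¬ IsMulCommutative S)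
    (hM : AS (.ominus 4 2) M) : ¬ Fac (PSp 4 F) A M S l := by
  intro hF
  have hfin : Finite (PSp 4 F) := Quotient.finite _
  have hm : 4 ≤ 4 := le_rfl
  have hme : Even 4 := by decide
  obtain ⟨p, f, r, hp, hf, hq, hr⟩ := exists_r (F := F) hm hme (fun h => by omega)
  have hp2 : p = 2 := by
    have h1 : p ∣ 2 ^ 1 := by
      rw [pow_one, ← hq2, hq]
      exact dvd_pow_self p (by omega)
    exact (Nat.prime_dvd_prime_iff_eq hp Nat.prime_two).1 (hp.dvd_of_dvd_pow h1)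
  have hf1 : f = 1 := by
    subst hp2
    have h1 : 2 ^ f = 2 ^ 1 := by rw [← hq, hq2, pow_one]
    exact Nat.pow_right_injective le_rfl h1
  have hM : AS (.ominus 4 (p ^ f)) M := by
    rw [hp2, hf1, pow_one]
    exact hM
  have hpp : PP (Nat.card F) 4 r := pp_of_prim hq hf hr
  have h := env_psp (by omega) hpp
  have h0 := conj0_psp (by omega) hpp
  have hcard := card_psp' (F := F) (m := 4) (by omega)
  rw [hq] at hcard
  have hno := (H884.Mx.partC hp hf (Or.inl rfl) hM hme hm hr).2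
  have hsc : ∀ k ∈ (QuotientGroup.mk' (Subgroup.center (Matrix.symplecticGroup (Fin 4) F))).ker,
      ∃ c : F, repS 4 F k = c • 1 := by
    intro k hk
    rcases sp_pm (by omega) (MonoidHom.mem_ker.1 hk) with h1 | h1
    · exact ⟨1, by rw [h1, one_smul]⟩
    · refine ⟨-1, ?_⟩
      rw [h1]
      apply LinearMap.ext
      intro v
      rw [LinearMap.smul_apply, LinearMap.neg_apply, Module.End.one_apply, neg_smul, one_smul]
  have fin : HasType (QuotientGroup.mk' (Subgroup.center (Matrix.symplecticGroup (Fin 4) F))) (repS 4 F) r 4 M →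
      False := by
    rintro ⟨x, hxM, hxr, hx1, hxd⟩
    exact end_ominus h hSna hF hp hf hq hm hme hr hM hcard hsc (B := fun u v => sympBilin 4 F u v)
      (fun u v w => sympForm_add_left u v w) (fun u v w => sympForm_add_right w u v) sp_nd sp_iso
      (h.fin_type h0 hF hno hxM hxr hx1 hxd) (h.fin_no h0 hF hno hxM hxr hx1 hxd)
  obtain ⟨x, w₁, w₂, hxM, -, -, hx, h₁, h₂, hc₁, hc₂, h12, hno'⟩ := partB4_three hf hM hr
  exact fin (h.hasType_sq (sympBilin 4 F) sp_nd sp_iso hme hxM hx Nat.prime_three (by norm_num)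
    (by rw [hq2]; norm_num) h₁ h₂ hc₁ hc₂ h12 hno')

end PSp

end Cfsg.Agent.H946.DK
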