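import Cfsg.Agent.S0799
import Cfsg.Agent.ClassicalGeometry.PSL2Solvable
import Cfsg.Agent.LieExceptional.PGLeqPSL
import Cfsg.Agent.H436.Ppd
import Cfsg.Agent.H436.TTPsl2
import Cfsg.Agent.H76.PermFour

/-!
# Subgroups of `PSL(2, q)` of order divisible by a primitive prime (helper946, for S3679)

* `simple_of_prim` : non-abelian simple proper subgroups of `PSL(2, p^N)` of order divisible by a prime `r` with
  `ord_r(p) = N` : `PSL(2, E)`, `|E|² = p^N`, or `A₅`, `r = 5`;
* `card_dvd_of_prim` : proper subgroups of `PSL(2, p^N)` of order divisible by a prime `r` with `ord_r(p) = 2 N` :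
  the order divides `2 (p^N + 1) / (2, p^N - 1)`, or `A₅`, `r = 5`.
-/

set_option autoImplicit false

namespace Cfsg.Agent.H946.DK

open Matrix Cfsg.Agent.ClassicalGeometry Cfsg.Agent.H436

/-! ### numbers -/

theorem exists_exp {p M m k : ℕ} (hp : p.Prime) (hM : M ≠ 0) (hk : IsPrimePow k) (h : k ^ m = p ^ M) :
    ∃ b, k = p ^ b ∧ b * m = M := by
  obtain ⟨l, b, hl, hb, rfl⟩ := (isPrimePow_nat_iff _).1 hk
  have hm : m ≠ 0 := by
    rintro rfl
    rw [pow_zero] at h
    exact absurd h.symm (Nat.one_lt_pow hM hp.one_lt).ne'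
  rw [← pow_mul] at h
  have h1 : l ∣ p ^ M := by
    rw [← h]
    exact dvd_pow_self l (Nat.mul_ne_zero hb.ne' hm)
  have h2 : l = p := (Nat.prime_dvd_prime_iff_eq hl hp).1 (hl.dvd_of_dvd_pow h1)
  subst h2
  exact ⟨b, rfl, Nat.pow_right_injective hl.two_le h⟩

theorem prim_dvd {p N r b c g : ℕ} (h : Prim p N r) (hc : c * g = p ^ b * ((p ^ b) ^ 2 - 1)) (hr : r ∣ c) :
    N ∣ 2 * b := by
  have h1 : r ∣ p ^ b * ((p ^ b) ^ 2 - 1) := by
    rw [← hc]
    exact hr.mul_right g
  rcases (Nat.Prime.dvd_mul h.prime).1 h1 with h2 | h2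
  · exact absurd h2 (h.not_dvd_pow b)
  · rw [← pow_mul, mul_comm] at h2
    exact (h.dvd_iff _).1 h2

theorem prim_lt {p N r : ℕ} (hp : 2 ≤ p) (hN : 3 ≤ N) (h : Prim p N r) : N < r := by
  have hr := h.prime
  have h1 : r ∣ p ^ (r - 1) - 1 := by
    have : Fact r.Prime := ⟨hr⟩
    have h2 : ((p : ℕ) : ZMod r) ≠ 0 := fun h3 => h.not_dvd ((ZMod.natCast_eq_zero_iff p r).1 h3)
    have h3 := ZMod.pow_card_sub_one_eq_one h2
    have h4 : 1 ≤ p ^ (r - 1) := Nat.one_le_pow _ _ (by omega)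
    rw [← ZMod.natCast_eq_zero_iff, Nat.cast_sub h4, Nat.cast_pow, h3, Nat.cast_one, sub_self]
  have h2 := (h.dvd_iff _).1 h1
  have h3 : N ≤ r - 1 := by
    refine Nat.le_of_dvd ?_ h2
    have := hr.two_le
    omega
  have := hr.two_le
  omega

theorem prim_sixty {p N r : ℕ} (hp : 2 ≤ p) (hN : 3 ≤ N) (h : Prim p N r) (hr : r ∣ 60) : r = 5 := by
  have h1 := prim_lt hp hN h
  have h2 : r ∣ 2 * 2 * 3 * 5 := hr
  have h3 := h.prime
  rcases (Nat.Prime.dvd_mul h3).1 h2 with h4 | h4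
  · rcases (Nat.Prime.dvd_mul h3).1 h4 with h5 | h5
    · rcases (Nat.Prime.dvd_mul h3).1 h5 with h6 | h6 <;>
      · have := Nat.le_of_dvd (by norm_num) h6
        omega
    · have := Nat.le_of_dvd (by norm_num) h5
      omega
  · exact (Nat.prime_dvd_prime_iff_eq h3 (by norm_num)).1 h4

theorem prim_not_24 {p N r : ℕ} (hp : 2 ≤ p) (hN : 3 ≤ N) (h : Prim p N r) : ¬ r ∣ 24 := by
  intro hr
  have h1 := prim_lt hp hN h
  have h2 : r ∣ 2 * 2 * 2 * 3 := hr
  have h3 := h.prime
  rcases (Nat.Prime.dvd_mul h3).1 h2 with h4 | h4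
  · rcases (Nat.Prime.dvd_mul h3).1 h4 with h5 | h5
    · rcases (Nat.Prime.dvd_mul h3).1 h5 with h6 | h6 <;>
      · have := Nat.le_of_dvd (by norm_num) h6
        omega
    · have := Nat.le_of_dvd (by norm_num) h5
      omega
  · have := Nat.le_of_dvd (by norm_num) h4
    omega

theorem card_alt4 : Nat.card (alternatingGroup (Fin 4)) = 12 := by
  have := two_mul_nat_card_alternatingGroup (α := Fin 4)
  rw [Nat.card_perm, Nat.card_fin] at this
  have h2 : Nat.factorial 4 = 24 := rfl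
  omega

theorem card_alt5 : Nat.card (alternatingGroup (Fin 5)) = 60 := by
  have := two_mul_nat_card_alternatingGroup (α := Fin 5)
  rw [Nat.card_perm, Nat.card_fin] at this
  have h2 : Nat.factorial 5 = 120 := rfl
  omega

/-! ### `PGL(2, E)` is not simple for odd `|E|` -/

theorem card_psl_congr {E E' : Type*} [Field E] [Fintype E] [Field E'] [Fintype E'] (h : Fintype.card E = Fintype.card E') :
    Nat.card (ProjectiveSpecialLinearGroup (Fin 2) E) = Nat.card (ProjectiveSpecialLinearGroup (Fin 2) E') := by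
  rw [PSL2Basic.card_PSL2_div, PSL2Basic.card_PSL2_div, h]

theorem psl_of_pgl {S : Type*} [Group S] [IsSimpleGroup S] {E : Type*} [Field E] [Fintype E]
    (e : S ≃* ProjGenLinGroup (Fin 2) E) : Nonempty (S ≃* ProjectiveSpecialLinearGroup (Fin 2) E) := by
  have hq : 1 < Fintype.card E := Fintype.one_lt_card
  have hfin : Finite (ProjGenLinGroup (Fin 2) E) :=
    Finite.of_surjective _ Matrix.ProjGenLinGroup.mk_surjective
  rcases Nat.even_or_odd (Fintype.card E) with hE | hE
  · -- every element is a square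
    have h2 : (2 : E) = 0 := by
      by_contra h
      exact (Nat.not_even_iff_odd.2 ((PSL2Basic.two_ne_zero_iff_odd E).1 h)) hE
    obtain ⟨f⟩ := LieExceptional.PGLeqPSL.nonempty_pgl_mulEquiv_psl E (fun x => by
      have hc : ringChar E = 2 := by
        refine CharP.ringChar_of_prime_eq_zero Nat.prime_two ?_
        exact_mod_cast h2
      obtain ⟨y, hy⟩ := FiniteField.isSquare_of_char_two hc x
      exact ⟨y, by rw [pow_two]; exact hy⟩)
    exact ⟨e.trans f⟩
  · exfalso
    have hs : IsSimpleGroup (ProjGenLinGroup (Fin 2) E) := e.symm.isSimpleGroup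
    set ι := Matrix.ProjectiveSpecialLinearGroup.toPGL (n := Fin 2) (R := E) with hι
    have hinj : Function.Injective ι := Matrix.ProjectiveSpecialLinearGroup.toPGL_injective (n := Fin 2) (R := E)
    have h1 : Nat.card ι.range = Nat.card (ProjectiveSpecialLinearGroup (Fin 2) E) :=
      (Nat.card_congr (MonoidHom.ofInjective hinj).toEquiv).symm
    have h2 := ι.range.card_mul_index
    have h3 := PSL2Basic.card_PSL2_odd E hE
    rw [h1, PSL2Basic.card_PGL2, ← h3] at h2
    have h4 : 0 < Nat.card (ProjectiveSpecialLinearGroup (Fin 2) E) := by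
      rw [← h1]
      exact Nat.card_pos
    have h5 : ι.range.index = 2 := Nat.eq_of_mul_eq_mul_left h4 h2
    have h6 : ι.range.Normal := Subgroup.normal_of_index_eq_two h5
    rcases h6.eq_bot_or_eq_top with h7 | h7
    · rw [h7, Subgroup.card_bot] at h1
      have h8 : 3 ≤ Fintype.card E := by
        obtain ⟨k, hk⟩ := hE
        omega
      rw [← h1, one_mul] at h3
      have h9 : 8 ≤ Fintype.card E ^ 2 - 1 := by
        have : 9 ≤ Fintype.card E ^ 2 := by nlinarith
        omega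
      have h10 : 3 * 8 ≤ Fintype.card E * (Fintype.card E ^ 2 - 1) := Nat.mul_le_mul h8 h9
      omega
    · rw [h7, Subgroup.index_top] at h5
      omega

/-! ### the two theorems -/

/-- **simple proper subgroups** -/
theorem simple_of_prim {K : Type*} [Field K] [Fintype K] {p N r : ℕ} (hp : p.Prime) (hK : Fintype.card K = p ^ N)
    (hN : 3 ≤ N) (hr : Prim p N r) {S : Type*} [Group S] [Finite S] [IsSimpleGroup S]
    (hna : ¬ ∀ a b : S, a * b = b * a) (ψ : S →* ProjectiveSpecialLinearGroup (Fin 2) K)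
    (hψ : Function.Injective ψ) (htop : ψ.range ≠ ⊤) (hrS : r ∣ Nat.card S) :
    (∃ (E : Type) (_ : Field E) (_ : Fintype E), Fintype.card E ^ 2 = p ^ N ∧
      Nonempty (S ≃* ProjectiveSpecialLinearGroup (Fin 2) E)) ∨
    (r = 5 ∧ Nonempty (S ≃* alternatingGroup (Fin 5))) := by
  have hpf : Fact p.Prime := ⟨hp⟩
  have hchar : CharP K p := by
    obtain ⟨l, hl⟩ := CharP.exists K
    obtain ⟨n, hlp, hn⟩ := FiniteField.card K l
    have h1 : l ∣ p ^ N := by
      rw [← hK, hn]
      exact dvd_pow_self l n.2.ne'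
    have h2 := (Nat.prime_dvd_prime_iff_eq hlp hp).1 (hlp.dvd_of_dvd_pow h1)
    rw [← h2]
    exact hl
  have hS4 := Cfsg.Agent.H76.PermFour.solvable_perm_four
  let e₀ : S ≃* ψ.range := MonoidHom.ofInjective hψ
  have hns : ¬ Group.IsSolvable S := fun hs => hna (IsSimpleGroup.comm_iff_isSolvable.mpr hs)
  rcases Cfsg.Agent.S0799.result (F := K) rfl p ψ.range with ⟨k, -, h | ⟨⟨e⟩⟩⟩ | ⟨P, L, hL, ⟨e⟩⟩ | ⟨⟨e⟩⟩ | ⟨⟨e⟩⟩ |
    ⟨⟨e⟩⟩ | ⟨E, _, _, m, hm, he⟩
  · exfalso
    have := h.1
    apply hna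
    intro a b
    apply e₀.injective
    rw [map_mul, map_mul]
    let _ := this.commGroup
    exact mul_comm _ _
  · exfalso
    have := ClassicalGeometry.PSL2Solvable.isSolvable_dihedral k
    exact hns (Group.isSolvable_of_surjective (e₀.trans e).symm.surjective (f := (e₀.trans e).symm.toMonoidHom))
  · exfalso
    have := ClassicalGeometry.PSL2Solvable.isSolvable_of_le_normalizer p P L hL
    exact hns (Group.isSolvable_of_surjective (e₀.trans e).symm.surjective (f := (e₀.trans e).symm.toMonoidHom))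
  · exfalso
    have : Group.IsSolvable ↥(alternatingGroup (Fin 4)) := inferInstance
    exact hns (Group.isSolvable_of_surjective (e₀.trans e).symm.surjective (f := (e₀.trans e).symm.toMonoidHom))
  · exfalso
    exact hns (Group.isSolvable_of_surjective (e₀.trans e).symm.surjective (f := (e₀.trans e).symm.toMonoidHom))
  · right
    refine ⟨prim_sixty hp.two_le hN hr ?_, ⟨e₀.trans e⟩⟩
    rw [Nat.card_congr (e₀.trans e).toEquiv, card_alt5] at hrS
    exact hrS
  · left
    obtain ⟨e⟩ : Nonempty (S ≃* ProjectiveSpecialLinearGroup (Fin 2) E) := by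
      rcases he with ⟨⟨e⟩⟩ | ⟨⟨e⟩⟩
      · exact ⟨e₀.trans e⟩
      · exact psl_of_pgl (e₀.trans e)
    refine ⟨E, inferInstance, inferInstance, ?_, ⟨e⟩⟩
    obtain ⟨b, hb, hbm⟩ := exists_exp hp (by omega) (Fintype.isPrimePow_card_of_field (α := E)) (hm.trans hK)
    have h1 : N ∣ 2 * b := by
      refine prim_dvd (c := Nat.card S) (g := Nat.gcd 2 (Fintype.card E - 1)) hr ?_ hrS
      rw [Nat.card_congr e.toEquiv, ← hb]
      exact PSL2Basic.card_PSL2_gcd E
    have hb0 : 0 < b := Nat.pos_of_ne_zero (by rintro rfl; omega)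
    have h2 : m ∣ 2 := by
      rw [← hbm, mul_comm 2 b] at h1
      exact Nat.dvd_of_mul_dvd_mul_left hb0 h1
    have h3 : m = 1 ∨ m = 2 := (Nat.dvd_prime Nat.prime_two).1 h2
    rcases h3 with rfl | rfl
    · exfalso
      apply htop
      apply Subgroup.eq_top_of_card_eq
      rw [← Nat.card_congr e₀.toEquiv, Nat.card_congr e.toEquiv]
      rw [pow_one] at hm
      exact card_psl_congr hm
    · rw [hm, hK]

/-- **proper subgroups of order divisible by a primitive prime of `p ^ (2 N) - 1`** -/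
theorem struct_of_prim {E : Type*} [Field E] [Fintype E] {p N r : ℕ} (hp : p.Prime) (hE : Fintype.card E = p ^ N)
    (hN : 2 ≤ N) (hr : Prim p (2 * N) r) (X : Subgroup (ProjectiveSpecialLinearGroup (Fin 2) E)) (hX : X ≠ ⊤)
    (hrX : r ∣ Nat.card X) :
    (∃ k, k ∣ (p ^ N + 1) / Nat.gcd 2 (p ^ N - 1) ∧ ((IsCyclic X ∧ Nat.card X = k) ∨ Nonempty (X ≃* DihedralGroup k))) ∨
      (r = 5 ∧ Nonempty (X ≃* alternatingGroup (Fin 5))) := by
  have hpf : Fact p.Prime := ⟨hp⟩
  have hchar : CharP E p := by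
    obtain ⟨l, hl⟩ := CharP.exists E
    obtain ⟨n, hlp, hn⟩ := FiniteField.card E l
    have h1 : l ∣ p ^ N := by
      rw [← hE, hn]
      exact dvd_pow_self l n.2.ne'
    have h2 := (Nat.prime_dvd_prime_iff_eq hlp hp).1 (hlp.dvd_of_dvd_pow h1)
    rw [← h2]
    exact hl
  have hr2 : r ≠ 2 := by
    have := prim_lt hp.two_le (by omega) hr
    omega
  have hq1 : 2 ≤ p ^ N := hp.two_le.trans (Nat.le_self_pow (by omega) p)
  have hrm : ¬ r ∣ p ^ N - 1 := by
    rw [hr.dvd_iff]
    intro h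
    have := Nat.le_of_dvd (by omega) h
    omega
  rcases Cfsg.Agent.S0799.result (F := E) hE p X with ⟨k, hk, h⟩ | ⟨P, L, hL, ⟨e⟩⟩ | ⟨⟨e⟩⟩ | ⟨⟨e⟩⟩ |
    ⟨⟨e⟩⟩ | ⟨E', _, _, m, hm, he⟩
  · left
    have hc : Nat.card X ∣ 2 * k := by
      rcases h with ⟨_, h⟩ | ⟨⟨f⟩⟩
      · rw [h]; exact Dvd.intro_left _ rfl
      · rw [Nat.card_congr f.toEquiv, DihedralGroup.nat_card]
    rcases hk with hk | hk
    · exact ⟨k, hk, h⟩
    · exfalso
      apply hrm
      have h1 : r ∣ 2 * k := hrX.trans hc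
      have h2 : r ∣ k := ((Nat.Prime.dvd_mul hr.prime).1 h1).resolve_left fun h =>
        hr2 ((Nat.prime_dvd_prime_iff_eq hr.prime Nat.prime_two).1 h)
      exact h2.trans (hk.trans (Nat.div_dvd_of_dvd (Nat.gcd_dvd_right _ _)))
  · exfalso
    have h1 := H436.TT.index_normalizer p P
    set M := Subgroup.normalizer ((P : Subgroup (ProjectiveSpecialLinearGroup (Fin 2) E)) :
      Set (ProjectiveSpecialLinearGroup (Fin 2) E)) with hM
    have h2 : Nat.card M * Nat.gcd 2 (p ^ N - 1) = p ^ N * (p ^ N - 1) := by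
      have h3 := M.card_mul_index
      have h4 := PSL2Basic.card_PSL2_gcd E
      rw [← h3, h1, hE] at h4
      have h5 : (p ^ N) ^ 2 - 1 = (p ^ N - 1) * (p ^ N + 1) := by
        have := Nat.sq_sub_sq (p ^ N) 1
        rw [one_pow] at this
        rw [this]; ring
      rw [h5] at h4
      refine Nat.eq_of_mul_eq_mul_right (show 0 < p ^ N + 1 by omega) ?_
      calc _ = Nat.card M * (p ^ N + 1) * Nat.gcd 2 (p ^ N - 1) := by ring
        _ = _ := by rw [h4]; ring
    have h3 : r ∣ p ^ N * (p ^ N - 1) := by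
      rw [← h2]
      refine Dvd.dvd.mul_right ?_ _
      rw [Nat.card_congr e.toEquiv] at hrX
      exact hrX.trans (Subgroup.card_dvd_of_le hL)
    rcases (Nat.Prime.dvd_mul hr.prime).1 h3 with h4 | h4
    · exact hr.not_dvd_pow _ h4
    · exact hrm h4
  · exfalso
    rw [Nat.card_congr e.toEquiv, card_alt4] at hrX
    exact prim_not_24 hp.two_le (by omega) hr (hrX.trans (by norm_num))
  · exfalso
    rw [Nat.card_congr e.toEquiv, Nat.card_perm, Nat.card_fin] at hrX
    exact prim_not_24 hp.two_le (by omega) hr hrX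
  · right
    refine ⟨prim_sixty hp.two_le (by omega) hr ?_, ⟨e⟩⟩
    rw [Nat.card_congr e.toEquiv, card_alt5] at hrX
    exact hrX
  · exfalso
    obtain ⟨b, hb, hbm⟩ := exists_exp hp (by omega) (Fintype.isPrimePow_card_of_field (α := E')) hm
    have hc : Nat.card X * Nat.gcd 2 (Fintype.card E' - 1) = Fintype.card E' * (Fintype.card E' ^ 2 - 1) ∨
        Nat.card X = Fintype.card E' * (Fintype.card E' ^ 2 - 1) := by
      rcases he with ⟨⟨e⟩⟩ | ⟨⟨e⟩⟩
      · left
        rw [Nat.card_congr e.toEquiv]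
        exact PSL2Basic.card_PSL2_gcd E'
      · right
        rw [Nat.card_congr e.toEquiv]
        exact PSL2Basic.card_PGL2 E'
    have h1 : 2 * N ∣ 2 * b := by
      rcases hc with hc | hc
      · rw [hb] at hc
        exact prim_dvd hr hc hrX
      · rw [hb, ← mul_one (Nat.card X)] at hc
        exact prim_dvd hr hc hrX
    have h2 : m = 1 := by
      have hb0 : 0 < b := Nat.pos_of_ne_zero (by rintro rfl; omega)
      have h3 : N ≤ b := Nat.le_of_dvd hb0 (Nat.dvd_of_mul_dvd_mul_left (by norm_num) h1)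
      have h4 : m ≠ 0 := by rintro rfl; omega
      by_contra h5
      have : b * 2 ≤ b * m := Nat.mul_le_mul_left b (by omega)
      omega
    subst h2
    rw [pow_one] at hm
    apply hX
    apply Subgroup.eq_top_of_le_card
    have h3 := PSL2Basic.card_PSL2_gcd E
    rw [hE] at h3
    rw [hm] at hc
    have h4 : 0 < Nat.gcd 2 (p ^ N - 1) := Nat.gcd_pos_of_pos_left _ (by norm_num)
    rcases hc with hc | hc
    · exact (Nat.eq_of_mul_eq_mul_right h4 (h3.trans hc.symm)).le
    · rw [hc, ← h3]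
      exact Nat.le_mul_of_pos_right _ h4

theorem card_dvd_of_prim {E : Type*} [Field E] [Fintype E] {p N r : ℕ} (hp : p.Prime) (hE : Fintype.card E = p ^ N)
    (hN : 2 ≤ N) (hr : Prim p (2 * N) r) (X : Subgroup (ProjectiveSpecialLinearGroup (Fin 2) E)) (hX : X ≠ ⊤)
    (hrX : r ∣ Nat.card X) :
    Nat.card X ∣ 2 * ((p ^ N + 1) / Nat.gcd 2 (p ^ N - 1)) ∨ (r = 5 ∧ Nonempty (X ≃* alternatingGroup (Fin 5))) := by
  rcases struct_of_prim hp hE hN hr X hX hrX with ⟨k, hk, h⟩ | h
  · left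
    have hc : Nat.card X ∣ 2 * k := by
      rcases h with ⟨_, h⟩ | ⟨⟨f⟩⟩
      · rw [h]; exact Dvd.intro_left _ rfl
      · rw [Nat.card_congr f.toEquiv, DihedralGroup.nat_card]
    exact hc.trans (Nat.mul_dvd_mul_left 2 hk)
  · exact Or.inr h

end Cfsg.Agent.H946.DK
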