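import Cfsg.Agent.H946.DK.Dick
import Cfsg.Agent.H946.DK.Dih

/-!
# Subgroups of `PSL(2, Q) × PSL(2, Q)` (helper946, DK-grp for S3679)

`D` a group with homomorphisms `f₁ f₂ : D → S`, jointly injective, with kernels of order prime to `r`, `r ∣ |D|`,
`S = PSL(2, E)`, `|E| = p ^ N`, `r` a primitive prime of `p ^ (2 N) - 1`: `|D| = |S|`, or
`|D| ∣ (2 (Q + 1) / d) ^ 2`, or `r = 5` and `|D| ∣ 60 ^ 2` or `|D| ∣ 60 · 2 (Q + 1) / d` (`dk_grp`).
Sharper: `|D| = |S|`, or `|D| ∣ 2 ((Q + 1) / d) ^ 2`, or `r = 5` and `|D| = 60` (`dk_grp'`).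
-/

set_option autoImplicit false

namespace Cfsg.Agent.H946.DK

open Matrix Cfsg.Agent.ClassicalGeometry Cfsg.Agent.H436

/-- `f₁` onto a simple group of order divisible by `r`, kernel of `f₂` of order prime to `r` : `f₂` is injective -/
theorem inj_of_surj {D S S' : Type*} [Group D] [Finite D] [Group S] [Group S'] [IsSimpleGroup S] {r : ℕ}
    (f₁ : D →* S) (f₂ : D →* S') (hinj : ∀ d, f₁ d = 1 → f₂ d = 1 → d = 1) (h2 : ¬ r ∣ Nat.card f₂.ker)
    (hrS : r ∣ Nat.card S) (hs : Function.Surjective f₁) : Function.Injective f₂ := by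
  have hn : (f₂.ker.map f₁).Normal := Subgroup.Normal.map inferInstance f₁ hs
  rw [injective_iff_map_eq_one]
  intro d hd
  rcases hn.eq_bot_or_eq_top with h | h
  · refine hinj d ?_ hd
    rw [← Subgroup.mem_bot, ← h]
    exact Subgroup.mem_map_of_mem _ (MonoidHom.mem_ker.2 hd)
  · exfalso
    apply h2
    have h3 : Nat.card (f₂.ker.map f₁) = Nat.card S := by rw [h, Subgroup.card_top]
    rw [← h3] at hrS
    exact hrS.trans (Subgroup.card_map_dvd _ _)

/-- **DK-grp** -/
theorem dk_grp {E : Type*} [Field E] [Fintype E] {p N r : ℕ} (hp : p.Prime) (hE : Fintype.card E = p ^ N)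
    (hN : 2 ≤ N) (hr : Prim p (2 * N) r) {S : Type*} [Group S] [Finite S] [IsSimpleGroup S]
    (e : S ≃* ProjectiveSpecialLinearGroup (Fin 2) E) (hrS : r ∣ Nat.card S) {D : Type*} [Group D] [Finite D]
    (f₁ f₂ : D →* S) (hinj : ∀ d, f₁ d = 1 → f₂ d = 1 → d = 1) (h1 : ¬ r ∣ Nat.card f₁.ker)
    (h2 : ¬ r ∣ Nat.card f₂.ker) (hrD : r ∣ Nat.card D) :
    Nat.card D = Nat.card S ∨ Nat.card D ∣ (2 * ((p ^ N + 1) / Nat.gcd 2 (p ^ N - 1))) ^ 2 ∨
      (r = 5 ∧ (Nat.card D ∣ 60 ^ 2 ∨ Nat.card D ∣ 60 * (2 * ((p ^ N + 1) / Nat.gcd 2 (p ^ N - 1))))) := by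
  have key : ∀ (f : D →* S), ¬ r ∣ Nat.card f.ker → r ∣ Nat.card f.range := by
    intro f hf
    have h3 := Subgroup.card_eq_card_quotient_mul_card_subgroup f.ker
    rw [Nat.card_congr (QuotientGroup.quotientKerEquivRange f).toEquiv] at h3
    rw [h3] at hrD
    exact ((Nat.Prime.dvd_mul hr.prime).1 hrD).resolve_right hf
  have hcard : ∀ (f : D →* S), Function.Injective f → Nat.card D ∣ Nat.card S := fun f hf =>
    Subgroup.card_dvd_of_injective f hf
  by_cases t1 : Function.Surjective f₁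
  · left
    exact Nat.dvd_antisymm (hcard f₂ (inj_of_surj f₁ f₂ hinj h2 hrS t1)) (Subgroup.card_dvd_of_surjective f₁ t1)
  by_cases t2 : Function.Surjective f₂
  · left
    exact Nat.dvd_antisymm (hcard f₁ (inj_of_surj f₂ f₁ (fun d a b => hinj d b a) h1 hrS t2))
      (Subgroup.card_dvd_of_surjective f₂ t2)
  right
  have hprop : ∀ f : D →* S, ¬ Function.Surjective f → f.range.map e.toMonoidHom ≠ ⊤ := by
    intro f hf h
    apply hf
    intro s
    have h3 : e s ∈ f.range.map e.toMonoidHom := by rw [h]; trivial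
    obtain ⟨y, ⟨d, rfl⟩, hy⟩ := h3
    exact ⟨d, e.injective hy⟩
  have hc : ∀ f : D →* S, Nat.card (f.range.map e.toMonoidHom) = Nat.card f.range := fun f =>
    Subgroup.card_map_of_injective e.injective
  have hX : ∀ f : D →* S, ¬ Function.Surjective f → r ∣ Nat.card f.range →
      Nat.card f.range ∣ 2 * ((p ^ N + 1) / Nat.gcd 2 (p ^ N - 1)) ∨ (r = 5 ∧ Nat.card f.range = 60) := by
    intro f hf hrf
    rcases card_dvd_of_prim hp hE hN hr (f.range.map e.toMonoidHom) (hprop f hf) (by rw [hc]; exact hrf) with h |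
      ⟨h, ⟨e'⟩⟩
    · left
      rwa [hc] at h
    · right
      refine ⟨h, ?_⟩
      rw [← hc, Nat.card_congr e'.toEquiv, card_alt5]
  have hprod : Nat.card D ∣ Nat.card f₁.range * Nat.card f₂.range := by
    rw [← Nat.card_prod]
    refine Subgroup.card_dvd_of_injective (f₁.rangeRestrict.prod f₂.rangeRestrict) ?_
    rw [injective_iff_map_eq_one]
    intro d hd
    exact hinj d (congrArg (fun z => ((z.1 : f₁.range) : S)) hd) (congrArg (fun z => ((z.2 : f₂.range) : S)) hd)
  rcases hX f₁ t1 (key f₁ h1) with a1 | ⟨a0, a1⟩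
  · rcases hX f₂ t2 (key f₂ h2) with b1 | ⟨b0, b1⟩
    · left
      rw [pow_two]
      exact hprod.trans (Nat.mul_dvd_mul a1 b1)
    · right
      refine ⟨b0, Or.inr ?_⟩
      rw [b1, mul_comm] at hprod
      exact hprod.trans (Nat.mul_dvd_mul_left 60 a1)
  · right
    refine ⟨a0, ?_⟩
    rw [a1] at hprod
    rcases hX f₂ t2 (key f₂ h2) with b1 | ⟨b0, b1⟩
    · right
      exact hprod.trans (Nat.mul_dvd_mul_left 60 b1)
    · left
      rw [b1] at hprod
      rw [pow_two]
      exact hprod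

theorem isSimple_alt5 : IsSimpleGroup (alternatingGroup (Fin 5)) :=
  alternatingGroup.isSimpleGroup (by rw [Nat.card_fin])

/-- **DK-grp, sharp form** -/
theorem dk_grp' {E : Type*} [Field E] [Fintype E] {p N r : ℕ} (hp : p.Prime) (hE : Fintype.card E = p ^ N)
    (hN : 2 ≤ N) (hr : Prim p (2 * N) r) {S : Type*} [Group S] [Finite S] [IsSimpleGroup S]
    (e : S ≃* ProjectiveSpecialLinearGroup (Fin 2) E) (hrS : r ∣ Nat.card S) {D : Type*} [Group D] [Finite D]
    (f₁ f₂ : D →* S) (hinj : ∀ d, f₁ d = 1 → f₂ d = 1 → d = 1) (h1 : ¬ r ∣ Nat.card f₁.ker)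
    (h2 : ¬ r ∣ Nat.card f₂.ker) (hrD : r ∣ Nat.card D) :
    Nat.card D = Nat.card S ∨ Nat.card D ∣ 2 * ((p ^ N + 1) / Nat.gcd 2 (p ^ N - 1)) ^ 2 ∨
      (r = 5 ∧ Nat.card D = 60) := by
  have hr5 := prim_lt hp.two_le (by omega) hr
  have key : ∀ (f : D →* S), ¬ r ∣ Nat.card f.ker → r ∣ Nat.card f.range := by
    intro f hf
    have h3 := Subgroup.card_eq_card_quotient_mul_card_subgroup f.ker
    rw [Nat.card_congr (QuotientGroup.quotientKerEquivRange f).toEquiv] at h3
    rw [h3] at hrD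
    exact ((Nat.Prime.dvd_mul hr.prime).1 hrD).resolve_right hf
  have hcard : ∀ (f : D →* S), Function.Injective f → Nat.card D ∣ Nat.card S := fun f hf =>
    Subgroup.card_dvd_of_injective f hf
  by_cases t1 : Function.Surjective f₁
  · left
    exact Nat.dvd_antisymm (hcard f₂ (inj_of_surj f₁ f₂ hinj h2 hrS t1)) (Subgroup.card_dvd_of_surjective f₁ t1)
  by_cases t2 : Function.Surjective f₂
  · left
    exact Nat.dvd_antisymm (hcard f₁ (inj_of_surj f₂ f₁ (fun d a b => hinj d b a) h1 hrS t2))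
      (Subgroup.card_dvd_of_surjective f₂ t2)
  right
  have hprop : ∀ f : D →* S, ¬ Function.Surjective f → f.range.map e.toMonoidHom ≠ ⊤ := by
    intro f hf h
    apply hf
    intro s
    have h3 : e s ∈ f.range.map e.toMonoidHom := by rw [h]; trivial
    obtain ⟨y, ⟨d, rfl⟩, hy⟩ := h3
    exact ⟨d, e.injective hy⟩
  let E' : ∀ f : D →* S, f.range ≃* f.range.map e.toMonoidHom := fun f =>
    f.range.equivMapOfInjective e.toMonoidHom e.injective
  have hX : ∀ f : D →* S, ¬ Function.Surjective f → r ∣ Nat.card f.range →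
      (∃ k, k ∣ (p ^ N + 1) / Nat.gcd 2 (p ^ N - 1) ∧
        ((IsCyclic f.range ∧ Nat.card f.range = k) ∨ Nonempty (f.range ≃* DihedralGroup k))) ∨
      (r = 5 ∧ Nonempty (f.range ≃* alternatingGroup (Fin 5))) := by
    intro f hf hrf
    rcases struct_of_prim hp hE hN hr (f.range.map e.toMonoidHom) (hprop f hf)
      (by rw [← Nat.card_congr (E' f).toEquiv]; exact hrf) with ⟨k, hk, ⟨hc, hk2⟩ | ⟨⟨e'⟩⟩⟩ | ⟨h, ⟨e'⟩⟩
    · left
      refine ⟨k, hk, Or.inl ⟨?_, ?_⟩⟩
      · exact isCyclic_of_surjective (E' f).symm.toMonoidHom (E' f).symm.surjective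
      · rw [Nat.card_congr (E' f).toEquiv, hk2]
    · left
      exact ⟨k, hk, Or.inr ⟨(E' f).trans e'⟩⟩
    · right
      exact ⟨h, ⟨(E' f).trans e'⟩⟩
  have hcardD : ∀ f : D →* S, Nat.card D = Nat.card f.range * Nat.card f.ker := fun f => by
    have h3 := Subgroup.card_eq_card_quotient_mul_card_subgroup f.ker
    rwa [Nat.card_congr (QuotientGroup.quotientKerEquivRange f).toEquiv] at h3
  -- the image of the kernel of `f₂` under `f₁`
  have himg : ∀ (f g : D →* S), (∀ d, f d = 1 → g d = 1 → d = 1) →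
      Nat.card (g.ker.map f.rangeRestrict) = Nat.card g.ker := by
    intro f g hfg
    have h3 : Function.Injective (f.rangeRestrict.comp g.ker.subtype) := by
      rw [injective_iff_map_eq_one]
      rintro ⟨d, hd⟩ hd'
      exact Subtype.ext (hfg d (congrArg Subtype.val hd') (MonoidHom.mem_ker.1 hd))
    have h4 : g.ker.map f.rangeRestrict = (f.rangeRestrict.comp g.ker.subtype).range := by
      rw [MonoidHom.range_comp, Subgroup.range_subtype]
    rw [h4]
    exact (Nat.card_congr (MonoidHom.ofInjective h3).toEquiv).symm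
  -- an image of type `A₅`
  have hA5 : ∀ (f g : D →* S), (∀ d, f d = 1 → g d = 1 → d = 1) → (∀ d, g d = 1 → f d = 1 → d = 1) →
      ¬ Function.Surjective g → ¬ r ∣ Nat.card f.ker → ¬ r ∣ Nat.card g.ker → r = 5 →
      Nonempty (f.range ≃* alternatingGroup (Fin 5)) → Nat.card D = 60 := by
    rintro f g hfg hgf tg hf hg h5 ⟨e'⟩
    have hs : IsSimpleGroup f.range := by
      have := isSimple_alt5
      exact e'.isSimpleGroup
    have hc : Nat.card f.range = 60 := by rw [Nat.card_congr e'.toEquiv, card_alt5]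
    -- `g` is injective
    have hgi : Function.Injective g := inj_of_surj f.rangeRestrict g
      (fun d a b => hfg d (congrArg Subtype.val a) b) hg (by rw [hc, h5]; norm_num) f.rangeRestrict_surjective
    rcases hX g tg (key g hg) with ⟨k, -, hk⟩ | ⟨-, ⟨e''⟩⟩
    · -- `D` is solvable
      exfalso
      have e3 : D ≃* g.range := MonoidHom.ofInjective hgi
      have hsol : Group.IsSolvable D := by
        rcases hk with ⟨hk, -⟩ | ⟨⟨hk⟩⟩
        · have : Group.IsSolvable g.range := by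
            let _ := hk.commGroup
            exact inferInstance
          exact Group.isSolvable_of_surjective (f := e3.symm.toMonoidHom) e3.symm.surjective
        · have := ClassicalGeometry.PSL2Solvable.isSolvable_dihedral k
          exact Group.isSolvable_of_surjective (f := (e3.trans hk).symm.toMonoidHom) (e3.trans hk).symm.surjective
      have h6 : Group.IsSolvable (alternatingGroup (Fin 5)) :=
        Group.isSolvable_of_surjective (f := (e'.toMonoidHom.comp f.rangeRestrict))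
          (e'.surjective.comp f.rangeRestrict_surjective)
      exact ClassicalGeometry.PSL2Solvable.not_isSolvable_alternating_five h6
    · rw [Nat.card_congr (MonoidHom.ofInjective hgi).toEquiv, Nat.card_congr e''.toEquiv, card_alt5]
  have hrk : ∀ k : ℕ, k ∣ (p ^ N + 1) / Nat.gcd 2 (p ^ N - 1) → k ≠ 0 := by
    rintro k hk rfl
    have h3 : (p ^ N + 1) / Nat.gcd 2 (p ^ N - 1) = 0 := Nat.eq_zero_of_zero_dvd hk
    have h4 : 2 ≤ p ^ N := hp.two_le.trans (Nat.le_self_pow (by omega) p)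
    have h5 : Nat.gcd 2 (p ^ N - 1) ≤ 2 := Nat.gcd_le_left _ (by norm_num)
    have h6 : 0 < Nat.gcd 2 (p ^ N - 1) := Nat.gcd_pos_of_pos_left _ (by norm_num)
    have h7 : 0 < (p ^ N + 1) / Nat.gcd 2 (p ^ N - 1) := Nat.div_pos (by omega) h6
    omega
  rcases hX f₁ t1 (key f₁ h1) with ⟨k₁, k1, a1⟩ | ⟨a0, a1⟩
  · rcases hX f₂ t2 (key f₂ h2) with ⟨k₂, k2, b1⟩ | ⟨b0, b1⟩
    · left
      have hc1 : Nat.card f₁.range ∣ 2 * k₁ := by
        rcases a1 with ⟨_, h⟩ | ⟨⟨f⟩⟩
        · rw [h]; exact Dvd.intro_left _ rfl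
        · rw [Nat.card_congr f.toEquiv, DihedralGroup.nat_card]
      have hn1 : Nat.card f₁.ker ∣ k₂ := by
        rw [← himg f₂ f₁ (fun d a b => hinj d b a)]
        refine normal_dvd hr.prime (by omega) (hrk _ k2) b1 (key f₂ h2) _ ?_ ?_
        · exact Subgroup.Normal.map inferInstance _ f₂.rangeRestrict_surjective
        · rw [himg f₂ f₁ (fun d a b => hinj d b a)]
          exact h1
      rw [hcardD f₁]
      have h3 := Nat.mul_dvd_mul (hc1.trans (Nat.mul_dvd_mul_left 2 k1)) (hn1.trans k2)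
      rw [mul_assoc, ← pow_two] at h3
      exact h3
    · right
      exact ⟨b0, hA5 f₂ f₁ (fun d a b => hinj d b a) hinj t1 h2 h1 b0 b1⟩
  · right
    exact ⟨a0, hA5 f₁ f₂ hinj (fun d a b => hinj d b a) t2 h1 h2 a0 a1⟩

end Cfsg.Agent.H946.DK
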