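import Cfsg.Agent.H436.Ppd

/-!
# Numbers for the kill of the special factorizations (helper946, S3679)
-/

set_option autoImplicit false

namespace Cfsg.Agent.H946.DK

open Cfsg.Agent.H436

theorem gcd_two_sub {p a : ℕ} (hp : p.Prime) (ha : a ≠ 0) : Nat.gcd 2 (p ^ a - 1) = Nat.gcd 2 (p - 1) := by
  rcases hp.eq_two_or_odd' with rfl | ho
  · have h1 : Odd (2 ^ a - 1) := by
      refine Nat.Even.sub_odd (Nat.one_le_pow _ _ (by norm_num)) ((Nat.even_pow' ha).2 even_two) odd_one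
    have : Nat.gcd 2 (2 ^ a - 1) = 1 := (Nat.coprime_two_left).2 h1
    rw [this]
    norm_num
  · have h1 : Nat.gcd 2 (p ^ a - 1) = 2 := by
      apply Nat.gcd_eq_left
      exact (Nat.Odd.sub_odd ho.pow odd_one).two_dvd
    have h2 : Nat.gcd 2 (p - 1) = 2 := by
      apply Nat.gcd_eq_left
      exact (Nat.Odd.sub_odd ho odd_one).two_dvd
    rw [h1, h2]

theorem gcd_dvd_add {p a : ℕ} (hp : 1 ≤ p ^ a) : Nat.gcd 2 (p ^ a - 1) ∣ p ^ a + 1 := by
  have h1 : Nat.gcd 2 (p ^ a - 1) ∣ (p ^ a - 1) + 2 := Nat.dvd_add (Nat.gcd_dvd_right _ _) (Nat.gcd_dvd_left _ _)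
  have h2 : p ^ a - 1 + 2 = p ^ a + 1 := by omega
  rwa [h2] at h1

theorem sq_sub_one (Q : ℕ) : Q ^ 2 - 1 = (Q - 1) * (Q + 1) := by
  have := Nat.sq_sub_sq Q 1
  rw [one_pow] at this
  rw [this]; ring

/-- `r ∣ D` -/
theorem r_dvd {r Q S d TM D X m : ℕ} (hr : r.Prime) (hQ : 2 ≤ Q) (h1 : r ∣ Q + 1) (h2 : ¬ r ∣ Q) (h3 : ¬ r ∣ Q - 1)
    (hd : ¬ r ∣ d) (hS : S * d = Q * (Q ^ 2 - 1)) (hX : ¬ r ∣ X) (hTM : TM * m = X * (Q ^ 2 - 1))
    (hD : TM * D = S ^ 2) : r ∣ D := by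
  have hrf : Fact r.Prime := ⟨hr⟩
  rw [sq_sub_one] at hS hTM
  have hQ1 : Q - 1 ≠ 0 := by omega
  have hX0 : X ≠ 0 := by rintro rfl; exact hX (dvd_zero r)
  have hd0 : d ≠ 0 := by rintro rfl; exact hd (dvd_zero r)
  have hR1 : Q * ((Q - 1) * (Q + 1)) ≠ 0 := by positivity
  have hR2 : X * ((Q - 1) * (Q + 1)) ≠ 0 := by positivity
  have hS0 : S ≠ 0 := by rintro rfl; rw [zero_mul] at hS; exact hR1 hS.symm
  have hT0 : TM ≠ 0 := by rintro rfl; rw [zero_mul] at hTM; exact hR2 hTM.symm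
  have hm0 : m ≠ 0 := by rintro rfl; rw [mul_zero] at hTM; exact hR2 hTM.symm
  have hD0 : D ≠ 0 := by
    rintro rfl
    rw [mul_zero] at hD
    exact (pow_ne_zero 2 hS0) hD.symm
  have v0 : ∀ {a : ℕ}, ¬ r ∣ a → padicValNat r a = 0 := fun h => padicValNat.eq_zero_of_not_dvd h
  have e1 := congrArg (padicValNat r) hS
  rw [padicValNat.mul hS0 hd0, v0 hd, padicValNat.mul (by omega) (by positivity), v0 h2,
    padicValNat.mul hQ1 (by omega), v0 h3] at e1
  have e2 := congrArg (padicValNat r) hTM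
  rw [padicValNat.mul hT0 hm0, padicValNat.mul hX0 (by positivity), v0 hX,
    padicValNat.mul hQ1 (by omega), v0 h3] at e2
  have e3 := congrArg (padicValNat r) hD
  rw [padicValNat.mul hT0 hD0, padicValNat.pow] at e3
  have e4 : 1 ≤ padicValNat r (Q + 1) := one_le_padicValNat_of_dvd (by omega) h1
  by_contra hcon
  rw [v0 hcon] at e3
  omega

theorem small_Q {Q : ℕ} (hQ : 4 ≤ Q) (h : Q - 1 ∣ 2 * (Q + 1)) : Q = 5 := by
  have h1 : Q - 1 ∣ 4 := by
    have h2 : 2 * (Q + 1) = 2 * (Q - 1) + 4 := by omega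
    rw [h2] at h
    exact (Nat.dvd_add_right (Dvd.intro_left 2 rfl)).1 h
  have h2 := Nat.le_of_dvd (by norm_num) h1
  have h3 : Q = 4 ∨ Q = 5 := by omega
  rcases h3 with rfl | rfl
  · norm_num at h1
  · rfl

theorem pow_ne_five {p N : ℕ} (hN : 2 ≤ N) : p ^ N ≠ 5 := by
  intro h
  have h5 : (p ^ N).Prime := by rw [h]; norm_num
  exact Nat.Prime.not_prime_pow hN h5

theorem two_mul_lt_pow {p f N : ℕ} (hp : 2 ≤ p) (hf : 1 ≤ f) (hN : 2 * f ≤ N) : 2 * f < p ^ N := by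
  have h1 : 2 ^ (2 * f) ≤ p ^ N := (Nat.pow_le_pow_left hp _).trans (Nat.pow_le_pow_right (by omega) hN)
  have h2 : 2 * f < 2 ^ (2 * f) := Nat.lt_two_pow_self
  omega

/-- **the numbers of R1** -/
theorem num1 {p f N r m S TM D : ℕ} (hp : p.Prime) (hf : 1 ≤ f) (hN : 2 * f ≤ N)
    (hS : S * Nat.gcd 2 (p ^ N - 1) = p ^ N * ((p ^ N) ^ 2 - 1))
    (hTM : TM * m = (p ^ N) ^ 2 * ((p ^ N) ^ 2 - 1)) (hm : m ∣ 2 * f * Nat.gcd 2 (p ^ N - 1)) (hD : TM * D = S ^ 2)
    (h5 : r = 5 → N = 2)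
    (h : D = S ∨ D ∣ 2 * ((p ^ N + 1) / Nat.gcd 2 (p ^ N - 1)) ^ 2 ∨ (r = 5 ∧ D = 60)) : False := by
  set Q := p ^ N with hQdef
  set d := Nat.gcd 2 (Q - 1) with hd
  have hQ4 : 4 ≤ Q := by
    have h1 : 2 ^ 2 ≤ p ^ N := (Nat.pow_le_pow_left hp.two_le 2).trans (Nat.pow_le_pow_right hp.pos (by omega))
    omega
  have hdpos : 0 < d := Nat.gcd_pos_of_pos_left _ (by norm_num)
  have hd2 : d ≤ 2 := Nat.gcd_le_left _ (by norm_num)
  have hdQ : d ∣ Q + 1 := gcd_dvd_add (p := p) (a := N) (by omega)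
  have hQ2 : 0 < Q ^ 2 - 1 := by
    rw [sq_sub_one]
    exact Nat.mul_pos (by omega) (by omega)
  have hm0 : 0 < m := Nat.pos_of_ne_zero (by
    rintro rfl
    have := Nat.eq_zero_of_zero_dvd hm
    have h1 : 0 < 2 * f * d := by positivity
    omega)
  have key : D * d ^ 2 = (Q ^ 2 - 1) * m := by
    have h1 : (Q ^ 2 * (Q ^ 2 - 1)) * (D * d ^ 2) = (Q ^ 2 * (Q ^ 2 - 1)) * ((Q ^ 2 - 1) * m) := by
      calc (Q ^ 2 * (Q ^ 2 - 1)) * (D * d ^ 2) = (TM * m) * (D * d ^ 2) := by rw [hTM]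
        _ = (TM * D) * d ^ 2 * m := by ring
        _ = (S * d) ^ 2 * m := by rw [hD]; ring
        _ = _ := by rw [hS]; ring
    exact Nat.eq_of_mul_eq_mul_left (by positivity) h1
  rcases h with h | h | ⟨hr, h⟩
  · subst h
    have h1 : (Q ^ 2 - 1) * m = (Q ^ 2 - 1) * (Q * d) := by
      rw [← key]
      calc D * d ^ 2 = (D * d) * d := by ring
        _ = _ := by rw [hS]; ring
    have h2 : m = Q * d := Nat.eq_of_mul_eq_mul_left hQ2 h1
    have h3 := Nat.le_of_dvd (by positivity) hm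
    rw [h2] at h3
    have h4 : Q ≤ 2 * f := Nat.le_of_mul_le_mul_right h3 hdpos
    have h5 := two_mul_lt_pow hp.two_le hf hN
    omega
  · have h1 : D * d ^ 2 ∣ 2 * (Q + 1) ^ 2 := by
      have h2 : 2 * (Q + 1) ^ 2 = (2 * ((Q + 1) / d) ^ 2) * d ^ 2 := by
        conv_lhs => rw [← Nat.div_mul_cancel hdQ]
        ring
      rw [h2]
      exact Nat.mul_dvd_mul_right h _
    rw [key, sq_sub_one] at h1
    have h2 : (Q + 1) * ((Q - 1) * m) ∣ (Q + 1) * (2 * (Q + 1)) := by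
      have h3 : (Q - 1) * (Q + 1) * m = (Q + 1) * ((Q - 1) * m) := by ring
      have h4 : 2 * (Q + 1) ^ 2 = (Q + 1) * (2 * (Q + 1)) := by ring
      rw [← h3, ← h4]
      exact h1
    have h3 := Nat.dvd_of_mul_dvd_mul_left (by omega) h2
    have h4 := small_Q hQ4 ((Dvd.intro _ rfl).trans h3)
    exact pow_ne_five (p := p) (N := N) (by omega) h4
  · have hN2 := h5 hr
    have hf1 : f = 1 := by omega
    subst hf1
    rw [h, sq_sub_one] at key
    have hp4 : Q = p ^ 2 := by rw [hQdef, hN2]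
    by_cases hp5 : 5 ≤ p
    · have h1 : 25 ≤ Q := by rw [hp4]; nlinarith
      have h2 : 24 * 26 ≤ (Q - 1) * (Q + 1) := Nat.mul_le_mul (by omega) (by omega)
      have h3 : d ^ 2 ≤ 4 := by nlinarith
      have h4 : (Q - 1) * (Q + 1) ≤ (Q - 1) * (Q + 1) * m := Nat.le_mul_of_pos_right _ hm0
      omega
    · have h1 : p = 2 ∨ p = 3 := by
        have := hp.two_le
        have h2 : p ≠ 4 := by rintro rfl; exact absurd hp (by norm_num)
        omega
      rcases h1 with rfl | rfl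
      · have h2 : Q = 4 := by rw [hp4]; norm_num
        rw [h2] at key hd
        have h3 : d = 1 := by rw [hd]; norm_num
        rw [h3] at key hm
        have h4 : m = 4 := by omega
        rw [h4] at hm
        norm_num at hm
      · have h2 : Q = 9 := by rw [hp4]; norm_num
        rw [h2] at key hd
        have h3 : d = 2 := by rw [hd]; norm_num
        rw [h3] at key hm
        have h4 : m = 3 := by omega
        rw [h4] at hm
        norm_num at hm

/-- **the numbers of R2** -/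
theorem num2 {p f N r m S TM D : ℕ} (hp : p.Prime) (hf : 1 ≤ f) (hN : 2 * f ≤ N)
    (hS : S * Nat.gcd 2 (p ^ N - 1) = p ^ N * ((p ^ N) ^ 2 - 1))
    (hTM : TM * (Nat.gcd 2 (p ^ N - 1) * m) = p ^ (2 * N - f) * ((p ^ N) ^ 2 - 1))
    (hm : m ∣ Nat.gcd 2 (p ^ N - 1) * f) (hD : TM * D = S ^ 2) (h5 : r = 5 → N = 2)
    (h : D = S ∨ D ∣ 2 * ((p ^ N + 1) / Nat.gcd 2 (p ^ N - 1)) ^ 2 ∨ (r = 5 ∧ D = 60)) : False := by
  set Q := p ^ N with hQdef
  set d := Nat.gcd 2 (Q - 1) with hd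
  have hQ4 : 4 ≤ Q := by
    have h1 : 2 ^ 2 ≤ p ^ N := (Nat.pow_le_pow_left hp.two_le 2).trans (Nat.pow_le_pow_right hp.pos (by omega))
    omega
  have hdpos : 0 < d := Nat.gcd_pos_of_pos_left _ (by norm_num)
  have hd2 : d ≤ 2 := Nat.gcd_le_left _ (by norm_num)
  have hdQ : d ∣ Q + 1 := gcd_dvd_add (p := p) (a := N) (by omega)
  have hQ2 : 0 < Q ^ 2 - 1 := by
    rw [sq_sub_one]
    exact Nat.mul_pos (by omega) (by omega)
  have hm0 : 0 < m := Nat.pos_of_ne_zero (by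
    rintro rfl
    have := Nat.eq_zero_of_zero_dvd hm
    have h1 : 0 < d * f := by positivity
    omega)
  have hpf : 0 < p ^ f := Nat.pow_pos hp.pos
  have hpp : 0 < p ^ (2 * N - f) := Nat.pow_pos hp.pos
  have hQf : Q ^ 2 = p ^ (2 * N - f) * p ^ f := by
    rw [← pow_add, hQdef, ← pow_mul]
    congr 1
    omega
  have key : D * d = p ^ f * (Q ^ 2 - 1) * m := by
    have h1 : (p ^ (2 * N - f) * (Q ^ 2 - 1) * d) * (D * d) =
        (p ^ (2 * N - f) * (Q ^ 2 - 1) * d) * (p ^ f * (Q ^ 2 - 1) * m) := by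
      calc (p ^ (2 * N - f) * (Q ^ 2 - 1) * d) * (D * d) = (TM * (d * m)) * d * (D * d) := by rw [hTM]
        _ = (TM * D) * d ^ 2 * (d * m) := by ring
        _ = (S * d) ^ 2 * (d * m) := by rw [hD]; ring
        _ = Q ^ 2 * (Q ^ 2 - 1) ^ 2 * (d * m) := by rw [hS]; ring
        _ = _ := by rw [hQf]; ring
    exact Nat.eq_of_mul_eq_mul_left (by positivity) h1
  have hlt : ¬ p ^ f ≤ d * f := by
    intro h1
    rcases hp.eq_two_or_odd' with rfl | ho
    · have h2 : d = 1 := by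
        rw [hd, hQdef, gcd_two_sub hp (by omega)]; norm_num
      rw [h2, one_mul] at h1
      exact absurd h1 (not_le.2 Nat.lt_two_pow_self)
    · have h2 : 3 ≤ p := by
        have := hp.two_le
        obtain ⟨k, hk⟩ := ho
        omega
      have h3 : 2 * f < 3 ^ f := by
        clear * - hf
        induction f with
        | zero => omega
        | succ f ih =>
          rcases Nat.eq_zero_or_pos f with rfl | h
          · norm_num
          · have := ih h
            rw [pow_succ]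
            omega
      have h4 : 3 ^ f ≤ p ^ f := Nat.pow_le_pow_left h2 f
      have h5 : d * f ≤ 2 * f := Nat.mul_le_mul_right f hd2
      omega
  rcases h with h | h | ⟨hr, h⟩
  · subst h
    rw [hS] at key
    have h1 : (Q ^ 2 - 1) * Q = (Q ^ 2 - 1) * (p ^ f * m) := by
      rw [mul_comm (Q ^ 2 - 1) Q, key]; ring
    have h2 : Q = p ^ f * m := Nat.eq_of_mul_eq_mul_left hQ2 h1
    have h3 : p ^ f * p ^ (N - f) = p ^ f * m := by
      rw [← h2, hQdef, ← pow_add]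
      congr 1
      omega
    have h4 : p ^ (N - f) = m := Nat.eq_of_mul_eq_mul_left hpf h3
    have h6 : p ^ f ≤ p ^ (N - f) := Nat.pow_le_pow_right hp.pos (by omega)
    have h7 := Nat.le_of_dvd (by positivity) hm
    exact hlt (h6.trans (h4.le.trans h7))
  · have h1 : D * d ^ 2 ∣ 2 * (Q + 1) ^ 2 := by
      have h2 : 2 * (Q + 1) ^ 2 = (2 * ((Q + 1) / d) ^ 2) * d ^ 2 := by
        conv_lhs => rw [← Nat.div_mul_cancel hdQ]
        ring
      rw [h2]
      exact Nat.mul_dvd_mul_right h _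
    have h0 : D * d ^ 2 = p ^ f * (Q ^ 2 - 1) * m * d := by
      rw [← key]; ring
    rw [h0, sq_sub_one] at h1
    have h2 : (Q + 1) * ((Q - 1) * (p ^ f * m * d)) ∣ (Q + 1) * (2 * (Q + 1)) := by
      have h3 : p ^ f * ((Q - 1) * (Q + 1)) * m * d = (Q + 1) * ((Q - 1) * (p ^ f * m * d)) := by ring
      have h4 : 2 * (Q + 1) ^ 2 = (Q + 1) * (2 * (Q + 1)) := by ring
      rw [← h3, ← h4]
      exact h1
    have h3 := Nat.dvd_of_mul_dvd_mul_left (by omega) h2
    have h4 := small_Q hQ4 ((Dvd.intro _ rfl).trans h3)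
    exact pow_ne_five (p := p) (N := N) (by omega) h4
  · have hN2 := h5 hr
    have hf1 : f = 1 := by omega
    subst hf1
    rw [h, sq_sub_one, pow_one] at key
    have hp4 : Q = p ^ 2 := by rw [hQdef, hN2]
    by_cases hp3 : 3 ≤ p
    · have h1 : 9 ≤ Q := by rw [hp4]; nlinarith
      have h2 : 8 * 10 ≤ (Q - 1) * (Q + 1) := Nat.mul_le_mul (by omega) (by omega)
      have h4 : 3 * (8 * 10) ≤ p * ((Q - 1) * (Q + 1)) := Nat.mul_le_mul hp3 h2
      have h5 : p * ((Q - 1) * (Q + 1)) ≤ p * ((Q - 1) * (Q + 1)) * m := Nat.le_mul_of_pos_right _ hm0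
      omega
    · have h1 : p = 2 := by
        have := hp.two_le
        omega
      subst h1
      have h2 : Q = 4 := by rw [hp4]; norm_num
      rw [h2] at key hd
      have h3 : d = 1 := by rw [hd]; norm_num
      rw [h3] at key hm
      have h4 : m = 2 := by omega
      rw [h4] at hm
      norm_num at hm

/-- `p ^ 3 ∣ 3600` -/
theorem pow_three_dvd {p : ℕ} (hp : p.Prime) (h : p ^ 3 ∣ 3600) : p = 2 := by
  have h1 : p ≤ 15 := by
    by_contra hcon
    have h2 : 16 ^ 3 ≤ p ^ 3 := Nat.pow_le_pow_left (by omega) 3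
    have := Nat.le_of_dvd (by norm_num) h
    omega
  interval_cases p <;> first | rfl | exact absurd h (by decide) | exact absurd hp (by norm_num)

end Cfsg.Agent.H946.DK
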